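import Groth.Agent.Lib.RHom.Assoc

/-! The monoidal structure on modules over a scheme. -/

set_option autoImplicit false
set_option linter.unusedSectionVars false
set_option backward.isDefEq.respectTransparency false
set_option backward.isDefEq.respectTransparency.types false
set_option maxHeartbeats 400000

universe u

open CategoryTheory MonoidalCategory AlgebraicGeometry Opposite

namespace Groth.Agent.DMon9

open M2 KFlat.Sch

variable {X : Scheme.{u}}

/-- Morphisms out of a sheafification are determined on the presheaf. -/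
theorem shf_hom_ext (P : PM X.presheaf) {K : X.Modules} {φ ψ : (shf X).obj P ⟶ K}
    (h : ∀ (U : X.Opens) (z : P.obj (op U)), φ.app U ((unitS P).app (op U) z) = ψ.app U ((unitS P).app (op U) z)) :
    φ = ψ := by
  refine ((adjS X).homEquiv P K).injective ?_
  apply PresheafOfModules.hom_ext
  intro U
  refine ModuleCat.hom_ext (LinearMap.ext fun z => ?_)
  rw [Adjunction.homEquiv_unit, Adjunction.homEquiv_unit]
  exact h U.unop z

theorem shfWhiskerIso'_hom_apply (P A : PM X.presheaf) {U : X.Opens} (p : P.obj (op U)) (a : A.obj (op U)) :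
    (shfWhiskerIso' P A).hom.app U ((unitS (P ⊗ A)).app (op U) (tm P A p a)) =
      (unitS (pm ((shf X).obj P) ⊗ A)).app (op U) (tm (pm ((shf X).obj P)) A ((unitS P).app (op U) p) a) :=
  (congrArg (fun φ => φ.app (op U) (tm P A p a)) (unitS_naturality (unitS P ⊗ₘ 𝟙 A))).symm

theorem shfWhiskerIso_hom_apply (A P : PM X.presheaf) {U : X.Opens} (a : A.obj (op U)) (p : P.obj (op U)) :
    (shfWhiskerIso A P).hom.app U ((unitS (A ⊗ P)).app (op U) (tm A P a p)) =
      (unitS (A ⊗ pm ((shf X).obj P))).app (op U) (tm A (pm ((shf X).obj P)) a ((unitS P).app (op U) p)) :=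
  (congrArg (fun φ => φ.app (op U) (tm A P a p)) (unitS_naturality (𝟙 A ⊗ₘ unitS P))).symm

/-- Maps out of a sheafified tensor product are determined on pure tensors. -/
theorem shf_tensor_ext (P Q : PM X.presheaf) {K : X.Modules} {φ ψ : (shf X).obj (P ⊗ Q) ⟶ K}
    (h : ∀ (U : X.Opens) (p : P.obj (op U)) (q : Q.obj (op U)),
      φ.app U ((unitS (P ⊗ Q)).app (op U) (tm P Q p q)) = ψ.app U ((unitS (P ⊗ Q)).app (op U) (tm P Q p q))) :
    φ = ψ := by
  refine shf_hom_ext _ fun U z => ?_
  induction z using tensor_induction P Q (U := U) with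
  | zero =>
    rw [show (unitS (P ⊗ Q)).app (op U) 0 = 0 from map_zero _, map_zero, map_zero]
  | tm' s t => exact h U s t
  | add a b ha hb =>
    rw [show (unitS (P ⊗ Q)).app (op U) (a + b) = _ + _ from map_add _ _ _, map_add, map_add, ha, hb]

/-- Extensionality on triple pure tensors. -/
theorem hom_ext₃ {A B C K : X.Modules} {φ ψ : CohB1.tensorMod (CohB1.tensorMod A B) C ⟶ K}
    (h : ∀ (U : X.Opens) (a : Γ(A, U)) (b : Γ(B, U)) (c : Γ(C, U)),
      φ.app U (tsec (CohB1.tensorMod A B) C (tsec A B a b) c) =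
        ψ.app U (tsec (CohB1.tensorMod A B) C (tsec A B a b) c)) : φ = ψ := by
  let e := shfWhiskerIso' (pm A ⊗ pm B) (pm C)
  rw [← cancel_epi e.hom]
  refine shf_tensor_ext _ _ fun U p c => ?_
  simp only [Scheme.Modules.Hom.comp_app]
  change φ.app U (e.hom.app U _) = ψ.app U (e.hom.app U _)
  rw [shfWhiskerIso'_hom_apply]
  induction p using tensor_induction (pm A) (pm B) (U := U) with
  | zero =>
    rw [show (unitS (pm A ⊗ pm B)).app (op U) 0 = 0 from map_zero _]
    change φ.app U (tsec (CohB1.tensorMod A B) C 0 c) = ψ.app U (tsec (CohB1.tensorMod A B) C 0 c)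
    rw [show tsec (CohB1.tensorMod A B) C 0 c = 0 from by
      have := tsec_add_left (0 : Γ(CohB1.tensorMod A B, U)) 0 c
      rw [add_zero] at this
      exact left_eq_add.1 this]
    rw [map_zero, map_zero]
  | tm' s t => exact h U s t c
  | add a b ha hb =>
    rw [show (unitS (pm A ⊗ pm B)).app (op U) (a + b) = _ + _ from map_add _ _ _]
    change φ.app U (tsec (CohB1.tensorMod A B) C (_ + _) c) = ψ.app U (tsec (CohB1.tensorMod A B) C (_ + _) c)
    rw [tsec_add_left, map_add, map_add]
    exact congr (congrArg _ ha) hb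

/-- Extensionality on quadruple pure tensors. -/
theorem hom_ext₄ {A B C D K : X.Modules}
    {φ ψ : CohB1.tensorMod (CohB1.tensorMod (CohB1.tensorMod A B) C) D ⟶ K}
    (h : ∀ (U : X.Opens) (a : Γ(A, U)) (b : Γ(B, U)) (c : Γ(C, U)) (d : Γ(D, U)),
      φ.app U (tsec _ D (tsec _ C (tsec A B a b) c) d) =
        ψ.app U (tsec _ D (tsec _ C (tsec A B a b) c) d)) : φ = ψ := by
  let P : PM X.presheaf := (pm A ⊗ pm B) ⊗ pm C
  let e := shfWhiskerIso' (pm A ⊗ pm B) (pm C)
  let e₁ := tensorIso e (Iso.refl D)
  let e₂ := shfWhiskerIso' P (pm D)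
  rw [← cancel_epi e₁.hom, ← cancel_epi e₂.hom]
  refine shf_tensor_ext _ _ fun U p d => ?_
  simp only [Scheme.Modules.Hom.comp_app]
  change φ.app U (e₁.hom.app U (e₂.hom.app U _)) = ψ.app U (e₁.hom.app U (e₂.hom.app U _))
  rw [shfWhiskerIso'_hom_apply]
  have k : ∀ z, e₁.hom.app U (tsec ((shf X).obj P) D z d) =
      tsec (CohB1.tensorMod (CohB1.tensorMod A B) C) D (e.hom.app U z) d :=
    fun z => tensorMap_tsec e.hom (𝟙 D) z d
  change φ.app U (e₁.hom.app U (tsec ((shf X).obj P) D _ d)) = ψ.app U (e₁.hom.app U (tsec ((shf X).obj P) D _ d))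
  rw [k]
  induction p using tensor_induction (pm A ⊗ pm B) (pm C) (U := U) with
  | zero =>
    rw [show (unitS P).app (op U) 0 = 0 from map_zero _, map_zero]
    rw [show tsec (CohB1.tensorMod (CohB1.tensorMod A B) C) D 0 d = 0 from by
      have := tsec_add_left (0 : Γ(CohB1.tensorMod (CohB1.tensorMod A B) C, U)) 0 d
      rw [add_zero] at this
      exact left_eq_add.1 this]
    rw [map_zero, map_zero]
  | add a b ha hb =>
    rw [show (unitS P).app (op U) (a + b) = _ + _ from map_add _ _ _, map_add, tsec_add_left, map_add, map_add]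
    exact congr (congrArg _ ha) hb
  | tm' p c =>
    rw [shfWhiskerIso'_hom_apply]
    change φ.app U (tsec _ D (tsec _ C _ c) d) = ψ.app U (tsec _ D (tsec _ C _ c) d)
    induction p using tensor_induction (pm A) (pm B) (U := U) with
    | zero =>
      rw [show (unitS (pm A ⊗ pm B)).app (op U) 0 = 0 from map_zero _]
      rw [show tsec (CohB1.tensorMod A B) C 0 c = 0 from by
        have := tsec_add_left (0 : Γ(CohB1.tensorMod A B, U)) 0 c
        rw [add_zero] at this
        exact left_eq_add.1 this]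
      rw [show tsec (CohB1.tensorMod (CohB1.tensorMod A B) C) D 0 d = 0 from by
        have := tsec_add_left (0 : Γ(CohB1.tensorMod (CohB1.tensorMod A B) C, U)) 0 d
        rw [add_zero] at this
        exact left_eq_add.1 this]
      rw [map_zero, map_zero]
    | tm' s t => exact h U s t c d
    | add a b ha hb =>
      rw [show (unitS (pm A ⊗ pm B)).app (op U) (a + b) = _ + _ from map_add _ _ _, tsec_add_left, tsec_add_left,
        map_add, map_add]
      exact congr (congrArg _ ha) hb

theorem tensorAssoc_tsec (L M N : X.Modules) {U : X.Opens} (l : Γ(L, U)) (m : Γ(M, U)) (n : Γ(N, U)) :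
    (tensorAssoc L M N).hom.app U (tsec (CohB1.tensorMod L M) N (tsec L M l m) n) =
      tsec L (CohB1.tensorMod M N) l (tsec M N m n) := by
  let t₀ := tm (pm L ⊗ pm M) (pm N) (tm (pm L) (pm M) l m) n
  have h2 := congrArg (fun φ => φ.app (op U) t₀) (unitS_naturality (α_ (pm L) (pm M) (pm N)).hom)
  have h4 : (shfWhiskerIso' (pm L ⊗ pm M) (pm N)).inv.app U (tsec (CohB1.tensorMod L M) N (tsec L M l m) n) =
      (unitS ((pm L ⊗ pm M) ⊗ pm N)).app (op U) t₀ := by
    rw [show tsec (CohB1.tensorMod L M) N (tsec L M l m) n =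
      (shfWhiskerIso' (pm L ⊗ pm M) (pm N)).hom.app U ((unitS ((pm L ⊗ pm M) ⊗ pm N)).app (op U) t₀) from
        (shfWhiskerIso'_hom_apply _ _ _ _).symm,
      ← CategoryTheory.comp_apply, ← Scheme.Modules.Hom.comp_app, Iso.hom_inv_id]
    rfl
  show (shfWhiskerIso (pm L) (pm M ⊗ pm N)).hom.app U (((shf X).mapIso (α_ (pm L) (pm M) (pm N))).hom.app U
    ((shfWhiskerIso' (pm L ⊗ pm M) (pm N)).inv.app U _)) = _
  rw [h4]
  refine (congrArg ((shfWhiskerIso (pm L) (pm M ⊗ pm N)).hom.app U) h2.symm).trans ?_
  exact shfWhiskerIso_hom_apply _ _ _ _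

theorem shfPmIso_unitS (M : X.Modules) {U : X.Opens} (m : Γ(M, U)) :
    (shfPmIso M).hom.app U ((unitS (pm M)).app (op U) m) = m :=
  congrArg (fun φ => φ.app (op U) m) ((adjS X).right_triangle_components M)

theorem tensorLUnit_tsec (M : X.Modules) {U : X.Opens} (r : Γ(Coh.structureModule X, U)) (m : Γ(M, U)) :
    (tensorLUnit M).hom.app U (tsec (Coh.structureModule X) M r m) = (show Γ(X, U) from r) • m := by
  have h := congrArg (fun φ => φ.app (op U) (tm (pm (Coh.structureModule X)) (pm M) r m))
    (unitS_naturality (λ_ (pm M)).hom)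
  show (shfPmIso M).hom.app U (((shf X).map (λ_ (pm M)).hom).app U _) = _
  exact (congrArg ((shfPmIso M).hom.app U) h.symm).trans (shfPmIso_unitS M _)

theorem tensorRUnit_tsec (M : X.Modules) {U : X.Opens} (m : Γ(M, U)) (r : Γ(Coh.structureModule X, U)) :
    (tensorRUnit M).hom.app U (tsec M (Coh.structureModule X) m r) = (show Γ(X, U) from r) • m := by
  have h := congrArg (fun φ => φ.app (op U) (tm (pm M) (pm (Coh.structureModule X)) m r))
    (unitS_naturality (ρ_ (pm M)).hom)
  show (shfPmIso M).hom.app U (((shf X).map (ρ_ (pm M)).hom).app U _) = _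
  exact (congrArg ((shfPmIso M).hom.app U) h.symm).trans (shfPmIso_unitS M _)

theorem tensor_pentagon (A B C D : X.Modules) :
    tensorMap (tensorAssoc A B C).hom (𝟙 D) ≫ (tensorAssoc A (CohB1.tensorMod B C) D).hom ≫
      tensorMap (𝟙 A) (tensorAssoc B C D).hom =
    (tensorAssoc (CohB1.tensorMod A B) C D).hom ≫ (tensorAssoc A B (CohB1.tensorMod C D)).hom := by
  refine hom_ext₄ fun U a b c d => ?_
  let t := tsec (CohB1.tensorMod (CohB1.tensorMod A B) C) D (tsec (CohB1.tensorMod A B) C (tsec A B a b) c) d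
  change (tensorMap (𝟙 A) (tensorAssoc B C D).hom).app U ((tensorAssoc A (CohB1.tensorMod B C) D).hom.app U
      ((tensorMap (tensorAssoc A B C).hom (𝟙 D)).app U t)) =
    (tensorAssoc A B (CohB1.tensorMod C D)).hom.app U ((tensorAssoc (CohB1.tensorMod A B) C D).hom.app U t)
  have h1 : (tensorMap (tensorAssoc A B C).hom (𝟙 D)).app U t =
      tsec (CohB1.tensorMod A (CohB1.tensorMod B C)) D (tsec A (CohB1.tensorMod B C) a (tsec B C b c)) d :=
    (tensorMap_tsec _ _ _ _).trans (congrArg (fun z => tsec _ D z d) (tensorAssoc_tsec A B C a b c))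
  have h2 := tensorAssoc_tsec A (CohB1.tensorMod B C) D a (tsec B C b c) d
  have h3 : (tensorMap (𝟙 A) (tensorAssoc B C D).hom).app U
        (tsec A (CohB1.tensorMod (CohB1.tensorMod B C) D) a (tsec (CohB1.tensorMod B C) D (tsec B C b c) d)) =
      tsec A (CohB1.tensorMod B (CohB1.tensorMod C D)) a (tsec B (CohB1.tensorMod C D) b (tsec C D c d)) :=
    (tensorMap_tsec _ _ _ _).trans (congrArg (fun z => tsec A _ a z) (tensorAssoc_tsec B C D b c d))
  have h4 := tensorAssoc_tsec (CohB1.tensorMod A B) C D (tsec A B a b) c d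
  have h5 := tensorAssoc_tsec A B (CohB1.tensorMod C D) a b (tsec C D c d)
  rw [h1, h2, h3, h4, h5]

theorem tensor_triangle (A B : X.Modules) :
    (tensorAssoc A (Coh.structureModule X) B).hom ≫ tensorMap (𝟙 A) (tensorLUnit B).hom =
      tensorMap (tensorRUnit A).hom (𝟙 B) := by
  refine hom_ext₃ fun U a r b => ?_
  let t := tsec (CohB1.tensorMod A (Coh.structureModule X)) B (tsec A (Coh.structureModule X) a r) b
  change (tensorMap (𝟙 A) (tensorLUnit B).hom).app U ((tensorAssoc A (Coh.structureModule X) B).hom.app U t) =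
    (tensorMap (tensorRUnit A).hom (𝟙 B)).app U t
  rw [tensorAssoc_tsec A (Coh.structureModule X) B a r b]
  refine ((tensorMap_tsec _ _ _ _).trans (congrArg (fun z => tsec A B a z) (tensorLUnit_tsec B r b))).trans ?_
  refine Eq.trans ?_ ((tensorMap_tsec _ _ _ _).trans (congrArg (fun z => tsec A B z b) (tensorRUnit_tsec A a r))).symm
  exact (tsec_smul_right _ _ _).trans (tsec_smul_left _ _ _).symm

/-- The monoidal structure on modules. -/
noncomputable abbrev modStruct (X : Scheme.{u}) : MonoidalCategoryStruct X.Modules where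
  tensorObj L M := ((TX X).obj L).obj M
  whiskerLeft L _ _ f := ((TX X).obj L).map f
  whiskerRight f M := ((TX X).map f).app M
  tensorHom f g := tensorMap f g
  tensorUnit := Coh.structureModule X
  associator := tensorAssoc
  leftUnitor := tensorLUnit
  rightUnitor := tensorRUnit

/-- The monoidal category of modules. -/
noncomputable scoped instance modMonoidal : MonoidalCategory X.Modules where
  toMonoidalCategoryStruct := modStruct X
  tensorHom_def {A A' B B'} f g := by
    show tensorMap f g = ((TX X).map f).app B ≫ ((TX X).obj A').map g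
    rw [RHom.map_eq_tensorMap_left, RHom.map_eq_tensorMap_right, ← tensorMap_comp, Category.comp_id,
      Category.id_comp]
  id_tensorHom_id := tensorMap_id
  tensorHom_comp_tensorHom f₁ f₂ g₁ g₂ := (tensorMap_comp f₁ g₁ f₂ g₂).symm
  whiskerLeft_id A B := ((TX X).obj A).map_id B
  id_whiskerRight A B := by
    show ((TX X).map (𝟙 A)).app B = _
    rw [CategoryTheory.Functor.map_id]
    rfl
  associator_naturality := tensorAssoc_natural
  leftUnitor_naturality f := by
    show ((TX X).obj (Coh.structureModule X)).map f ≫ _ = _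
    rw [RHom.map_eq_tensorMap_right]
    exact tensorLUnit_natural f
  rightUnitor_naturality f := by
    show ((TX X).map f).app (Coh.structureModule X) ≫ _ = _
    rw [RHom.map_eq_tensorMap_left]
    exact tensorRUnit_natural f
  pentagon A B C D := by
    refine Eq.trans ?_ (tensor_pentagon A B C D)
    refine congrArg₂ (· ≫ ·) (RHom.map_eq_tensorMap_left (tensorAssoc A B C).hom D) ?_
    exact congrArg (_ ≫ ·) (RHom.map_eq_tensorMap_right A (tensorAssoc B C D).hom)
  triangle A B := by
    refine Eq.trans ?_ ((tensor_triangle A B).trans (RHom.map_eq_tensorMap_left (tensorRUnit A).hom B).symm)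
    exact congrArg (_ ≫ ·) (RHom.map_eq_tensorMap_right A (tensorLUnit B).hom)

theorem curriedTensor_eq (X : Scheme.{u}) : curriedTensor X.Modules = TX X := rfl

end Groth.Agent.DMon9
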