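import Groth.Agent.Lib.DMon9.LPExtra

/-! The derived pullback of the prelude and the monoidal one are isomorphic functors. -/

set_option autoImplicit false
set_option linter.unusedSectionVars false
set_option linter.style.haveILetI false
set_option backward.isDefEq.respectTransparency false
set_option backward.isDefEq.respectTransparency.types false
set_option maxHeartbeats 800000

universe u

open CategoryTheory CategoryTheory.Limits AlgebraicGeometry

attribute [local instance] HasDerivedCategory.standard

namespace Groth.Agent.DMon9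

open KFlat KFlat.Sch

variable {X Y : Scheme.{u}} (f : X ⟶ Y)

/-- The comparison, on complexes, in the form needed for the homotopy category. -/
noncomputable def lPhPre :
    HomotopyCategory.quotient Y.Modules (ComplexShape.up ℤ) ⋙ DerivedCategory.Qh ⋙ lP f ⟶
      HomotopyCategory.quotient Y.Modules (ComplexShape.up ℤ) ⋙ DCoh.pullKh f :=
  (Functor.associator _ _ _).inv ≫ Functor.whiskerRight (DerivedCategory.quotientCompQhIso Y.Modules).hom (lP f) ≫
    lPα f ≫ Functor.whiskerLeft (pullCx f) (DerivedCategory.quotientCompQhIso X.Modules).inv ≫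
    (Functor.associator _ _ _).inv ≫
    Functor.whiskerRight ((Scheme.Modules.pullback f).mapHomotopyCategoryFactors (ComplexShape.up ℤ)).inv
      DerivedCategory.Qh ≫ (Functor.associator _ _ _).hom

theorem isIso_lPhPre (K : CochainComplex Y.Modules ℤ) (hK : IsKFlat (TX Y) K) : IsIso ((lPhPre f).app K) := by
  haveI := isIso_lPα f K hK
  simp only [lPhPre, NatTrans.comp_app, Functor.whiskerLeft_app, Functor.whiskerRight_app,
    Functor.associator_inv_app, Functor.associator_hom_app]
  infer_instance

/-- The comparison on the homotopy category. -/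
noncomputable def lPh : DerivedCategory.Qh ⋙ lP f ⟶ DCoh.pullKh f :=
  CategoryTheory.Quotient.natTransLift _ (lPhPre f)

/-- The derived pullback of the prelude is the monoidal one, naturally. -/
theorem nonempty_lpull_natIso_lP [DCoh.HasLpull f] : Nonempty (DCoh.Lpull f ≅ lP f) := by
  let W := HomotopyCategory.quasiIso Y.Modules (ComplexShape.up ℤ)
  let c := (DCoh.pullKh f).totalLeftDerivedCounit DerivedCategory.Qh W
  let κ : lP f ⟶ DCoh.Lpull f := (DCoh.Lpull f).leftDerivedLift c W (lP f) (lPh f)
  haveI : ∀ A, IsIso (κ.app A) := fun A => by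
    obtain ⟨K, hK, ⟨e⟩⟩ := exists_adapted_rep A
    haveI hc : IsIso (c.app ((HomotopyCategory.quotient Y.Modules (ComplexShape.up ℤ)).obj K)) :=
      isIso_derivedCounit (cover Y) (Scheme.Modules.pullback f) IsAdapted isAdapted_resObj
        (fun φ _ hK hK' => quasiIso_pullback_map f φ hK hK') K hK
    have h := (DCoh.Lpull f).leftDerived_fac_app c W (lP f) (lPh f)
      ((HomotopyCategory.quotient Y.Modules (ComplexShape.up ℤ)).obj K)
    haveI : IsIso ((lPh f).app ((HomotopyCategory.quotient Y.Modules (ComplexShape.up ℤ)).obj K)) :=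
      isIso_lPhPre f K hK.1
    haveI : IsIso (κ.app (DerivedCategory.Qh.obj ((HomotopyCategory.quotient Y.Modules (ComplexShape.up ℤ)).obj K)) ≫
        c.app ((HomotopyCategory.quotient Y.Modules (ComplexShape.up ℤ)).obj K)) := h ▸ inferInstance
    have h' : IsIso (κ.app (DerivedCategory.Qh.obj ((HomotopyCategory.quotient Y.Modules (ComplexShape.up ℤ)).obj K))) :=
      IsIso.of_isIso_comp_right _ (c.app ((HomotopyCategory.quotient Y.Modules (ComplexShape.up ℤ)).obj K))
    exact (NatTrans.isIso_app_iff_of_iso κ
      ((DerivedCategory.quotientCompQhIso Y.Modules).app K ≪≫ e)).1 h'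
  haveI := NatIso.isIso_of_isIso_app κ
  exact ⟨(asIso κ).symm⟩

end Groth.Agent.DMon9
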