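import Groth.Agent.Lib.RHom.Generate

/-! A separator generates the derived category of a Grothendieck abelian category. -/

set_option autoImplicit false
set_option linter.unusedSectionVars false
set_option linter.style.haveILetI false
set_option backward.isDefEq.respectTransparency false
set_option backward.isDefEq.respectTransparency.types false

universe w v u

open CategoryTheory CategoryTheory.Limits CategoryTheory.Pretriangulated
open scoped ZeroObject

namespace Groth.Agent.DMon9

open RHom (telDiff shortExact_telescope bounded_induction)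

variable {A : Type u} [Category.{v} A] [Abelian A] [IsGrothendieckAbelian.{v} A] [HasDerivedCategory.{w} A]

/-- A localizing class of objects. -/
structure Loc (P : DerivedCategory A → Prop) : Prop where
  iso : ∀ {Z Z' : DerivedCategory A}, (Z ≅ Z') → P Z → P Z'
  zero : ∀ {Z : DerivedCategory A}, IsZero Z → P Z
  cone : ∀ T : Triangle (DerivedCategory A), T ∈ distTriang _ → P T.obj₁ → P T.obj₂ → P T.obj₃
  shift : ∀ {Z : DerivedCategory A} (n : ℤ), P Z → P (Z⟦n⟧)
  coprod : ∀ {ι : Type v} (Z : ι → CochainComplex A ℤ),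
    (∀ i, P (DerivedCategory.Q.obj (Z i))) → P (DerivedCategory.Q.obj (∐ Z))

variable {P : DerivedCategory A → Prop} (hP : Loc P)
include hP

theorem Loc.obj₂ (T : Triangle (DerivedCategory A)) (hT : T ∈ distTriang _) (h₁ : P T.obj₁) (h₃ : P T.obj₃) :
    P T.obj₂ :=
  hP.cone T.invRotate (inv_rot_of_distTriang _ hT) (hP.shift (-1) h₃) h₁

theorem Loc.ext {S : ShortComplex (CochainComplex A ℤ)} (hS : S.ShortExact)
    (h₁ : P (DerivedCategory.Q.obj S.X₁)) (h₃ : P (DerivedCategory.Q.obj S.X₃)) :
    P (DerivedCategory.Q.obj S.X₂) :=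
  hP.obj₂ _ (DerivedCategory.triangleOfSES_distinguished hS) h₁ h₃

theorem Loc.coker {S : ShortComplex (CochainComplex A ℤ)} (hS : S.ShortExact)
    (h₁ : P (DerivedCategory.Q.obj S.X₁)) (h₂ : P (DerivedCategory.Q.obj S.X₂)) :
    P (DerivedCategory.Q.obj S.X₃) :=
  hP.cone _ (DerivedCategory.triangleOfSES_distinguished hS) h₁ h₂

theorem Loc.colimit_seq (F : ℕ ⥤ CochainComplex A ℤ)
    (h : ∀ n, P (DerivedCategory.Q.obj (F.obj n))) : P (DerivedCategory.Q.obj (colimit F)) :=
  hP.coker (shortExact_telescope F) (hP.coprod _ fun t => h t.down) (hP.coprod _ fun t => h t.down)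

variable (E₀ : A) (hG : IsSeparator E₀)

omit hP in
/-- Sums of copies of a separator covering an object, functorially. -/
noncomputable def genF : A ⥤ A where
  obj M := ∐ fun _ : (E₀ ⟶ M) => E₀
  map {M N} f := Sigma.desc fun p => Sigma.ι (fun _ : (E₀ ⟶ N) => E₀) (p ≫ f)
  map_id M := Sigma.hom_ext _ _ fun p => by
    rw [Sigma.ι_desc, Category.comp_id]
    simp
  map_comp f g := Sigma.hom_ext _ _ fun p => by
    rw [Sigma.ι_desc, Sigma.ι_desc_assoc, Sigma.ι_desc]
    simp

omit hP in
/-- The evaluation. -/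
noncomputable def genπ : genF E₀ ⟶ 𝟭 A where
  app M := Sigma.desc fun p => p
  naturality M N f := Sigma.hom_ext _ _ fun p => by simp [genF]

omit hP in
theorem epi_genπ (hG : IsSeparator E₀) (M : A) : Epi ((genπ E₀).app M) :=
  ⟨fun g h hgh => hG.def g h fun a => by
    have := congrArg (Sigma.ι (fun _ : (E₀ ⟶ M) => E₀) a ≫ ·) hgh
    simpa [genπ] using this⟩

omit hP in
/-- The cover by a separator. -/
noncomputable def genCover : KFlat.Cover A := KFlat.Cover.mk' _ (genπ E₀) (epi_genπ E₀ hG)

variable (hgen : ∀ a : ℤ, P (DerivedCategory.Q.obj ((HomologicalComplex.single A (ComplexShape.up ℤ) a).obj E₀)))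
include hgen

theorem Loc.single_genF (a : ℤ) (M : A) :
    P (DerivedCategory.Q.obj ((HomologicalComplex.single A (ComplexShape.up ℤ) a).obj ((genF E₀).obj M))) :=
  hP.iso (DerivedCategory.Q.mapIso (PreservesCoproduct.iso (HomologicalComplex.single A (ComplexShape.up ℤ) a)
    (fun _ : (E₀ ⟶ M) => E₀)).symm) (hP.coprod _ fun _ => hgen a)

theorem Loc.single_genCover (a : ℤ) (M : A) :
    P (DerivedCategory.Q.obj ((HomologicalComplex.single A (ComplexShape.up ℤ) a).obj ((genCover E₀ hG).F.obj M))) := by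
  haveI : HasFiniteBiproducts A := Abelian.hasFiniteBiproducts
  let i : (genF E₀).obj (0 : A) ⟶ (genF E₀).obj M := (genF E₀).map 0
  haveI : IsSplitMono i := ⟨⟨⟨(genF E₀).map 0, by
    rw [← Functor.map_comp, comp_zero, show (0 : (0 : A) ⟶ 0) = 𝟙 _ from (isZero_zero _).eq_of_src _ _,
      CategoryTheory.Functor.map_id]⟩⟩⟩
  have hS : (ShortComplex.mk i (cokernel.π i) (cokernel.condition i)).ShortExact :=
    ShortComplex.ShortExact.mk' (ShortComplex.exact_cokernel i) inferInstance inferInstance
  exact hP.coker (hS.map_of_exact (HomologicalComplex.single A (ComplexShape.up ℤ) a))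
    (hP.single_genF E₀ hgen a 0) (hP.single_genF E₀ hgen a M)

theorem Loc.boundedAbove (L : CochainComplex A ℤ) (b : ℤ) [L.IsStrictlyLE b]
    (hL : ∀ i, ∃ M, Nonempty ((genCover E₀ hG).F.obj M ≅ L.X i)) : P (DerivedCategory.Q.obj L) := by
  refine hP.iso (DerivedCategory.Q.mapIso ((colimit.isColimit _).coconePointUniqueUpToIso
    (KFlat.isColimitBrutCocone L (b + 1)))) (hP.colimit_seq _ fun n => ?_)
  haveI := KFlat.brutGE_isStrictlyLE L (b + 1 - (n : ℤ)) b
  refine bounded_induction (fun K => P (DerivedCategory.Q.obj K))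
    (fun K hK => hP.zero (DerivedCategory.Q.map_isZero hK))
    (fun S hSp h₁ h₃ => hP.ext (HomologicalComplex.shortExact_of_degreewise_shortExact S
      fun i => (hSp i).some.shortExact) h₁ h₃)
    (fun M => ∀ a, P (DerivedCategory.Q.obj ((HomologicalComplex.single A (ComplexShape.up ℤ) a).obj M)))
    (fun M hM a => hP.zero (DerivedCategory.Q.map_isZero ((HomologicalComplex.single _ _ a).map_isZero hM)))
    (fun e h a => hP.iso (DerivedCategory.Q.mapIso ((HomologicalComplex.single _ _ a).mapIso e)) (h a))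
    (fun a M h => h a) b n (KFlat.brutGE L (b + 1 - (n : ℤ))) fun i a => ?_
  by_cases hi : b + 1 - (n : ℤ) ≤ i
  · obtain ⟨M, ⟨e⟩⟩ := hL i
    exact hP.iso (DerivedCategory.Q.mapIso ((HomologicalComplex.single _ _ a).mapIso (e ≪≫ (KFlat.brutIso L hi).symm)))
      (hP.single_genCover E₀ hG hgen a M)
  · exact hP.zero (DerivedCategory.Q.map_isZero ((HomologicalComplex.single _ _ a).map_isZero
      (KFlat.brutGE_isZero L (by omega))))

theorem Loc.stage_mem : ∀ (k : ℕ) (G : CochainComplex A ℤ) (b : ℤ) [G.IsStrictlyLE b],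
    P (DerivedCategory.Q.obj ((KFlat.stage (genCover E₀ hG) k).obj G))
  | 0, G, b, _ => by
      haveI := (genCover E₀ hG).cx_isStrictlyLE G b
      exact hP.boundedAbove E₀ hG hgen ((genCover E₀ hG).cx.obj G) b fun i => ⟨G.X i, ⟨Iso.refl _⟩⟩
  | k + 1, G, b, _ => by
      haveI := (genCover E₀ hG).ker_isStrictlyLE G b
      haveI := (genCover E₀ hG).cx_isStrictlyLE G b
      have h₁ := Loc.stage_mem k ((genCover E₀ hG).ker G) b
      have h₂ : P (DerivedCategory.Q.obj ((genCover E₀ hG).cx.obj G)) :=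
        hP.boundedAbove E₀ hG hgen _ b fun i => ⟨G.X i, ⟨Iso.refl _⟩⟩
      exact hP.iso (DerivedCategory.Q.mapIso (KFlat.cylCokerIsoCone ((KFlat.stage (genCover E₀ hG) k).attach (genCover E₀ hG) G)).symm)
        (hP.cone _ (DerivedCategory.mappingCone_triangle_distinguished ((KFlat.stage (genCover E₀ hG) k).attach (genCover E₀ hG) G)) h₁ h₂)

include hG in
/-- Every object lies in a localizing class containing the generators. -/
theorem Loc.all [AB5OfSize.{0, 0} A] (Z : DerivedCategory A) : P Z := by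
  haveI : QuasiIso (KFlat.resπ (genCover E₀ hG) (DerivedCategory.Q.objPreimage Z)) := KFlat.quasiIso_resπ _ _
  refine hP.iso (asIso (DerivedCategory.Q.map (KFlat.resπ (genCover E₀ hG) (DerivedCategory.Q.objPreimage Z))) ≪≫
    DerivedCategory.Q.objObjPreimageIso Z) (hP.colimit_seq _ fun n => ?_)
  exact hP.stage_mem E₀ hG hgen (2 * n) ((DerivedCategory.Q.objPreimage Z).truncLE (n : ℤ)) (n : ℤ)

end Groth.Agent.DMon9
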