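import Mathlib.CategoryTheory.Monoidal.Functor
import Mathlib.CategoryTheory.Monoidal.Rigid.Basic

/-! The projection map of a monoidal left adjoint, and its invertibility at invertible objects. -/

set_option autoImplicit false
set_option linter.unusedSectionVars false
set_option linter.style.haveILetI false

open CategoryTheory MonoidalCategory

namespace Groth.Agent.DMon9

open Functor.OplaxMonoidal Functor.LaxMonoidal

variable {C D : Type*} [Category* C] [Category* D] [MonoidalCategory C] [MonoidalCategory D]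
  {L : C ⥤ D} [L.Monoidal] {R : D ⥤ C} (adj : L ⊣ R)

/-- `R E ⊗ A ⟶ R (E ⊗ L A)`. -/
noncomputable def projApp (E : D) (A : C) : R.obj E ⊗ A ⟶ R.obj (E ⊗ L.obj A) :=
  adj.homEquiv _ _ (δ L (R.obj E) A ≫ adj.counit.app E ▷ L.obj A)

theorem projApp_natural (E : D) {A B : C} (g : A ⟶ B) :
    R.obj E ◁ g ≫ projApp adj E B = projApp adj E A ≫ R.map (E ◁ L.map g) := by
  rw [projApp, projApp, ← Adjunction.homEquiv_naturality_left, ← Adjunction.homEquiv_naturality_right]
  congr 1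
  rw [← δ_natural_right_assoc, Category.assoc]
  exact congrArg (_ ≫ ·) (whisker_exchange _ _)

theorem projApp_natural_left {E E' : D} (h : E ⟶ E') (A : C) :
    R.map h ▷ A ≫ projApp adj E' A = projApp adj E A ≫ R.map (h ▷ L.obj A) := by
  rw [projApp, projApp, ← Adjunction.homEquiv_naturality_left, ← Adjunction.homEquiv_naturality_right]
  congr 1
  rw [← δ_natural_left_assoc, Category.assoc, ← comp_whiskerRight, ← comp_whiskerRight]
  exact congrArg (fun t => _ ≫ t ▷ _) (adj.counit.naturality h)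

/-- The projection map, naturally in `A`. -/
noncomputable def projNat (E : D) : tensorLeft (R.obj E) ⟶ (L ⋙ tensorLeft E) ⋙ R where
  app A := projApp adj E A
  naturality _ _ g := projApp_natural adj E g

theorem projApp_unit (E : D) :
    projApp adj E (𝟙_ C) ≫ R.map (E ◁ η L ≫ (ρ_ E).hom) = (ρ_ (R.obj E)).hom := by
  rw [projApp, ← Adjunction.homEquiv_naturality_right]
  refine (Equiv.eq_symm_apply _).1 ?_
  rw [Adjunction.homEquiv_counit]
  have h : adj.counit.app E ▷ L.obj (𝟙_ C) ≫ E ◁ η L ≫ (ρ_ E).hom =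
      L.obj (R.obj E) ◁ η L ≫ (ρ_ _).hom ≫ adj.counit.app E := by
    refine (Category.assoc _ _ _).symm.trans ((congrArg (· ≫ _) (whisker_exchange _ _).symm).trans
      ((Category.assoc _ _ _).trans (congrArg (_ ≫ ·) ?_)))
    exact rightUnitor_naturality _
  refine (Category.assoc _ _ _).trans ((congrArg (_ ≫ ·) h).trans ?_)
  simp

theorem isIso_projApp_unit (E : D) : IsIso (projApp adj E (𝟙_ C)) := by
  haveI : IsIso (projApp adj E (𝟙_ C) ≫ R.map (E ◁ η L ≫ (ρ_ E).hom)) := by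
    rw [projApp_unit]
    infer_instance
  exact IsIso.of_isIso_comp_right _ (R.map (E ◁ η L ≫ (ρ_ E).hom))

theorem projApp_tensor (E : D) (A B : C) :
    projApp adj E (A ⊗ B) = (α_ (R.obj E) A B).inv ≫ projApp adj E A ▷ B ≫ projApp adj (E ⊗ L.obj A) B ≫
      R.map ((α_ E (L.obj A) (L.obj B)).hom ≫ E ◁ μ L A B) := by
  have h : (adj.homEquiv _ _).symm (projApp adj E A) = δ L (R.obj E) A ≫ adj.counit.app E ▷ L.obj A :=
    Equiv.symm_apply_apply _ _
  rw [Adjunction.homEquiv_counit] at h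
  refine (adj.homEquiv _ _).symm.injective ?_
  rw [Adjunction.homEquiv_naturality_left_symm, Adjunction.homEquiv_naturality_left_symm,
    Adjunction.homEquiv_naturality_right_symm]
  simp only [projApp, Equiv.symm_apply_apply]
  rw [Category.assoc (δ L (R.obj (E ⊗ L.obj A)) B), ← δ_natural_left_assoc, ← comp_whiskerRight_assoc]
  rw [projApp] at h
  rw [h]
  simp only [comp_whiskerRight, Category.assoc]
  dsimp only [Functor.id_obj, Functor.comp_obj]
  rw [associator_naturality_left_assoc]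
  rw [← whisker_exchange, ← Functor.OplaxMonoidal.associativity_inv_assoc, Iso.inv_hom_id_assoc,
    ← whiskerLeft_comp_assoc, Functor.Monoidal.δ_μ, whiskerLeft_id, Category.id_comp]

theorem isIso_whiskerRight_of_invertible {A B : C} (_e : A ⊗ B ≅ 𝟙_ C) (c : B ⊗ A ≅ 𝟙_ C) {P Q : C} (p : P ⟶ Q)
    (hp : IsSplitMono (p ▷ B)) : IsSplitMono p := by
  obtain ⟨⟨r⟩⟩ := hp
  let i : ∀ Z : C, (Z ⊗ B) ⊗ A ≅ Z := fun Z => α_ Z B A ≪≫ whiskerLeftIso Z c ≪≫ ρ_ Z
  have hi : p ▷ B ▷ A ≫ (i Q).hom = (i P).hom ≫ p := by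
    simp only [i, Iso.trans_hom, whiskerLeftIso_hom, associator_naturality_left_assoc, ← whisker_exchange_assoc,
      rightUnitor_naturality, Category.assoc]
  refine ⟨⟨⟨(i Q).inv ≫ r.retraction ▷ A ≫ (i P).hom, ?_⟩⟩⟩
  have h2 : p ≫ (i Q).inv = (i P).inv ≫ p ▷ B ▷ A := by
    rw [Iso.comp_inv_eq, Category.assoc, hi, Iso.inv_hom_id_assoc]
  rw [reassoc_of% h2, ← comp_whiskerRight_assoc, r.id]
  simp

/-- The projection map is invertible at invertible objects. -/
theorem isIso_projApp_invertible (E : D) {A B : C} (e : A ⊗ B ≅ 𝟙_ C) (c : B ⊗ A ≅ 𝟙_ C) :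
    IsIso (projApp adj E A) := by
  have hiso : ∀ (F : D) (P Q : C), IsIso (projApp adj F (P ⊗ Q)) →
      IsIso (projApp adj F P ▷ Q ≫ projApp adj (F ⊗ L.obj P) Q) := fun F P Q h => by
    rw [projApp_tensor] at h
    haveI := h
    haveI := IsIso.of_isIso_comp_left (α_ (R.obj F) P Q).inv
      (projApp adj F P ▷ Q ≫ projApp adj (F ⊗ L.obj P) Q ≫ R.map ((α_ F (L.obj P) (L.obj Q)).hom ≫ F ◁ μ L P Q))
    haveI : IsIso ((projApp adj F P ▷ Q ≫ projApp adj (F ⊗ L.obj P) Q) ≫
        R.map ((α_ F (L.obj P) (L.obj Q)).hom ≫ F ◁ μ L P Q)) := by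
      rw [Category.assoc]
      infer_instance
    exact IsIso.of_isIso_comp_right _ (R.map ((α_ F (L.obj P) (L.obj Q)).hom ≫ F ◁ μ L P Q))
  have hone : ∀ (F : D) (P : C), (P ≅ 𝟙_ C) → IsIso (projApp adj F P) := fun F P u => by
    haveI := isIso_projApp_unit adj F
    haveI : IsIso (projApp adj F P ≫ R.map (F ◁ L.map u.hom)) := by
      rw [← projApp_natural]
      infer_instance
    exact IsIso.of_isIso_comp_right _ (R.map (F ◁ L.map u.hom))
  haveI h₁ := hiso E A B (hone _ _ e)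
  haveI : IsSplitMono (projApp adj E A) := by
    refine isIso_whiskerRight_of_invertible e c _ ⟨⟨⟨projApp adj (E ⊗ L.obj A) B ≫
      inv (projApp adj E A ▷ B ≫ projApp adj (E ⊗ L.obj A) B), ?_⟩⟩⟩
    rw [← Category.assoc]
    exact IsIso.hom_inv_id _
  haveI h₂ := hiso (E ⊗ L.obj A) B A (hone _ _ c)
  let u : (E ⊗ L.obj A) ⊗ L.obj B ≅ E :=
    α_ _ _ _ ≪≫ whiskerLeftIso E (Functor.Monoidal.μIso L A B ≪≫ L.mapIso e ≪≫ (Functor.Monoidal.εIso L).symm) ≪≫ ρ_ E
  haveI : IsSplitEpi (projApp adj ((E ⊗ L.obj A) ⊗ L.obj B) A) := ⟨⟨⟨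
      inv (projApp adj (E ⊗ L.obj A) B ▷ A ≫ projApp adj ((E ⊗ L.obj A) ⊗ L.obj B) A) ≫
        projApp adj (E ⊗ L.obj A) B ▷ A, by rw [Category.assoc]; exact IsIso.inv_hom_id _⟩⟩⟩
  haveI : Epi (R.map u.hom ▷ A ≫ projApp adj E A) := by
    rw [projApp_natural_left]
    infer_instance
  haveI : Epi (projApp adj E A) := epi_of_epi (R.map u.hom ▷ A) _
  exact isIso_of_epi_of_isSplitMono _

end Groth.Agent.DMon9
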