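import Groth.Agent.Lib.DMon9.LPExtra
import Groth.Agent.Lib.DMon9.ProjMap
import Groth.Agent.Lib.DMon9.Generate
import Groth.Agent.Lib.RHom.Five
import Groth.Agent.Lib.RHom.Coprod
import Groth.Agent.Lib.RHom.Dual
import Groth.Agent.Lib.DMV.Restrict
import Groth.Agent.Lib.DMV.Support
import Groth.Agent.Lib.DQC.Affine
import Groth.Agent.Lib.DCompact9.Ring
import Groth.Agent.S1000
import Mathlib.CategoryTheory.Triangulated.Yoneda

/-! The projection formula for objects with quasi-coherent cohomology. -/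

set_option autoImplicit false
set_option linter.unusedSectionVars false
set_option linter.style.haveILetI false
set_option backward.isDefEq.respectTransparency false
set_option backward.isDefEq.respectTransparency.types false
set_option maxHeartbeats 800000

universe u

open CategoryTheory CategoryTheory.Limits MonoidalCategory AlgebraicGeometry CategoryTheory.Pretriangulated
open Localization.Monoidal

attribute [local instance] HasDerivedCategory.standard

namespace Groth.Agent.DMon9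

open KFlat KFlat.Sch

variable {X Y W : Scheme.{u}}

theorem isLeftAdjoint_tensorLeft (A : DM X) : (tensorLeft A : DM X ⥤ DM X).IsLeftAdjoint := by
  obtain ⟨K, ⟨e⟩⟩ := exists_qM (A : DCoh.D X)
  let e' : (qM X).obj K ≅ A := e
  haveI := KFlat.Sch.hasLTensorCx K.obj
  haveI : DCoh.HasRSheafHom K.obj := RHom.hasRSheafHom K.obj
  obtain ⟨c⟩ := nonempty_commIso K
  haveI : (tL K).IsLeftAdjoint := ⟨_, ⟨(DCoh.RSheafHomAdj K.obj).ofNatIsoLeft (c ≪≫ theta K).symm⟩⟩
  haveI : (tensorLeft ((qM X).obj K) : DM X ⥤ DM X).IsLeftAdjoint := inferInstanceAs (tL K).IsLeftAdjoint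
  exact Functor.isLeftAdjoint_of_iso ((MonoidalCategory.tensoringLeft (DM X)).mapIso e')

theorem homExact_of_isLeftAdjoint (Φ : DCoh.D Y ⥤ DCoh.D X) [Φ.IsLeftAdjoint] : RHom.HomExact Φ := by
  intro T hT Z ψ hψ
  let adj := Adjunction.ofIsLeftAdjoint Φ
  have h0 : T.mor₁ ≫ adj.homEquiv _ _ ψ = 0 := by
    rw [← Adjunction.homEquiv_naturality_left, hψ, Adjunction.homEquiv_unit, Functor.map_zero, comp_zero]
  obtain ⟨χ, hχ⟩ := T.yoneda_exact₂ hT _ h0
  refine ⟨(adj.homEquiv _ _).symm χ, ?_⟩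
  rw [← Adjunction.homEquiv_naturality_left_symm, ← hχ, Equiv.symm_apply_apply]

theorem hExact_comp (Φ : DCoh.D Y ⥤ DCoh.D X) [Φ.PreservesZeroMorphisms] (hΦ : RHom.HomExact Φ)
    (Ψ : DCoh.D X ⥤ DCoh.D W) [Ψ.CommShift ℤ] [Ψ.IsTriangulated] (j : ℤ) :
    RHom.HExact ((Φ ⋙ Ψ) ⋙ DerivedCategory.homologyFunctor W.Modules j) := by
  intro T hT
  have w : Φ.map T.mor₁ ≫ Φ.map T.mor₂ = 0 := by
    rw [← Functor.map_comp, comp_distTriang_mor_zero₁₂ _ hT, Functor.map_zero]
  refine ⟨by rw [Functor.comp_map, Functor.comp_map, Functor.comp_map, Functor.comp_map, ← Functor.map_comp,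
    ← Functor.map_comp, w, Functor.map_zero, Functor.map_zero], ?_⟩
  obtain ⟨C', q, δ', hT'⟩ := distinguished_cocone_triangle (Φ.map T.mor₁)
  obtain ⟨χ, hχ⟩ := hΦ T hT q (comp_distTriang_mor_zero₁₂ _ hT')
  have hex := DerivedCategory.HomologySequence.exact₂ _ (Ψ.map_distinguished _ hT') j
  rw [ShortComplex.exact_iff_exact_up_to_refinements] at hex ⊢
  intro W' y hy
  exact hex y (by
    change y ≫ (DerivedCategory.homologyFunctor W.Modules j).map (Ψ.map q) = 0
    refine (congrArg (fun t => y ≫ (DerivedCategory.homologyFunctor W.Modules j).map (Ψ.map t)) hχ).trans ?_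
    refine (congrArg (y ≫ ·) ((congrArg _ (Ψ.map_comp _ _)).trans (Functor.map_comp _ _ _))).trans ?_
    exact (Category.assoc _ _ _).symm.trans ((congrArg (· ≫ _) hy).trans zero_comp))

variable (f : X ⟶ Y) (V : Y.Opens)

/-- The comparison with restriction to `V`, before and after pullback. -/
noncomputable def resPullComm :
    lP f ⋙ DPerf.resD (f ⁻¹ᵁ V).ι ≅ DPerf.resD V.ι ⋙ lP (f ∣_ V) :=
  Functor.isoWhiskerLeft _ (lPRes (f ⁻¹ᵁ V).ι).symm ≪≫ lPComp (f ⁻¹ᵁ V).ι f (morphismRestrict_ι f V).symm ≪≫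
    (lPComp (f ∣_ V) V.ι rfl).symm ≪≫ Functor.isoWhiskerRight (lPRes V.ι) _

theorem isIso_resD_whiskerLeft (A : DM Y) {B B' : DM Y} (s : B ⟶ B')
    (hs : IsIso ((DPerf.resD V.ι).map (s : (B : DCoh.D Y) ⟶ B'))) :
    IsIso ((DPerf.resD V.ι).map (A ◁ s : ((A ⊗ B : DM Y) : DCoh.D Y) ⟶ (A ⊗ B' : DM Y))) := by
  haveI : IsIso ((lP V.ι).map (s : (B : DCoh.D Y) ⟶ B')) := (NatIso.isIso_map_iff (lPRes V.ι) _).2 hs
  refine (NatIso.isIso_map_iff (lPRes V.ι) _).1 ?_
  haveI : IsIso ((dPull V.ι).map s) := ‹IsIso ((lP V.ι).map _)›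
  change IsIso ((dPull V.ι).map (A ◁ s))
  rw [Functor.Monoidal.map_whiskerLeft]
  infer_instance

theorem isQCohD_resD_tensor (A B : DM Y) (hA : DCoh.IsQCohD ((DPerf.resD V.ι).obj (A : DCoh.D Y)))
    (hB : DCoh.IsQCohD ((DPerf.resD V.ι).obj (B : DCoh.D Y))) :
    DCoh.IsQCohD ((DPerf.resD V.ι).obj ((A ⊗ B : DM Y) : DCoh.D Y)) :=
  DQC.isQCohD_of_iso (X := (V : Scheme.{u})) ((Functor.Monoidal.μIso (dPull V.ι) A B) ≪≫ (lPRes V.ι).app _)
    (isQCohD_tensor (A := (dPull V.ι).obj A) (B := (dPull V.ι).obj B)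
      (DQC.isQCohD_of_iso ((lPRes V.ι).app (A : DCoh.D Y)).symm hA)
      (DQC.isQCohD_of_iso ((lPRes V.ι).app (B : DCoh.D Y)).symm hB))

section

variable [DCoh.HasRpush f]

/-- The adjunction. -/
noncomputable def adjLP : lP f ⊣ DCoh.Rpush f := (nonempty_adj f).some

/-- Derived direct image, monoidally typed. -/
noncomputable abbrev rM : DM X ⥤ DM Y := DCoh.Rpush f

/-- The adjunction, monoidally typed. -/
noncomputable abbrev adjM : dPull f ⊣ rM f := adjLP f

variable (E : DM X)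

/-- The source. -/
noncomputable def srcF : DCoh.D Y ⥤ DCoh.D Y := (tensorLeft ((rM f).obj E) : DM Y ⥤ DM Y)

/-- The middle functor. -/
noncomputable def midF : DCoh.D Y ⥤ DCoh.D X := (dPull f ⋙ tensorLeft E : DM Y ⥤ DM X)

/-- The target. -/
noncomputable abbrev tgtF : DCoh.D Y ⥤ DCoh.D Y := midF f E ⋙ DCoh.Rpush f

/-- The projection map. -/
noncomputable def projT : srcF f E ⟶ tgtF f E := projNat (adjM f) E

instance isLeftAdjoint_srcF : (srcF f E).IsLeftAdjoint := isLeftAdjoint_tensorLeft _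

instance isLeftAdjoint_midF : (midF f E).IsLeftAdjoint := by
  haveI : (dPull f).IsLeftAdjoint := (adjM f).isLeftAdjoint
  haveI := isLeftAdjoint_tensorLeft E
  exact inferInstanceAs (dPull f ⋙ tensorLeft E).IsLeftAdjoint

/-- The projection map restricted to `V`. -/
noncomputable def projV : srcF f E ⋙ DPerf.resD V.ι ⟶ tgtF f E ⋙ DPerf.resD V.ι :=
  Functor.whiskerRight (projT f E) _

theorem isIso_projV_single (a : ℤ) :
    IsIso ((projV f V E).app
      (DerivedCategory.Q.obj ((HomologicalComplex.single Y.Modules (ComplexShape.up ℤ) a).obj (Coh.structureModule Y)))) := by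
  let P : ℤ → KF Y := fun b => ⟨RHom.sg b (Coh.structureModule Y), RHom.isKFlat_sgOne b⟩
  have hP : ∀ b : ℤ, Nonempty ((qM Y).obj (P b) ⊗ (qM Y).obj (P (-b)) ≅ 𝟙_ (DM Y)) := fun b =>
    ⟨muK (P b) (P (-b)) ≪≫ DerivedCategory.Q.mapIso ((RHom.singleFunIso (-b)).app (RHom.sg b (Coh.structureModule Y)) ≪≫
      ((CochainComplex.singleFunctors Y.Modules).shiftIso (- -b) 0 b (by simp)).app (Coh.structureModule Y))⟩
  obtain ⟨e₁⟩ := hP a
  obtain ⟨e₂⟩ := hP (-a)
  rw [neg_neg] at e₂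
  haveI : IsIso (projApp (adjM f) E ((qM Y).obj (P a))) := isIso_projApp_invertible (adjM f) E e₁ e₂
  exact inferInstanceAs (IsIso ((DPerf.resD V.ι).map (projApp (adjM f) E ((qM Y).obj (P a)))))

theorem isQCohD_midF (hE : DCoh.IsQCohD (E : DCoh.D X)) {A : DCoh.D Y}
    (hA : DCoh.IsQCohD ((DPerf.resD V.ι).obj A)) :
    DCoh.IsQCohD ((DPerf.resD (f ⁻¹ᵁ V).ι).obj ((midF f E).obj A)) :=
  isQCohD_resD_tensor (f ⁻¹ᵁ V) E ((dPull f).obj A) (DQC.isQCohD_resD _ hE)
    (DQC.isQCohD_of_iso ((resPullComm f V).app A).symm (isQCohD_lP _ hA))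

theorem isIso_srcF_map {B B' : DCoh.D Y} (s : B ⟶ B') (hs : IsIso ((DPerf.resD V.ι).map s)) :
    IsIso ((srcF f E ⋙ DPerf.resD V.ι).map s) :=
  isIso_resD_whiskerLeft V _ s hs

theorem isIso_tgtF_map [DCoh.HasRpush (f ∣_ V)] {B B' : DCoh.D Y} (s : B ⟶ B')
    (hs : IsIso ((DPerf.resD V.ι).map s)) : IsIso ((tgtF f E ⋙ DPerf.resD V.ι).map s) := by
  obtain ⟨c⟩ := DMV.nonempty_restrictD_rpush f V
  haveI : IsIso ((DPerf.resD (f ⁻¹ᵁ V).ι).map ((midF f E).map s)) := by
    refine isIso_resD_whiskerLeft (f ⁻¹ᵁ V) E _ ((NatIso.isIso_map_iff (resPullComm f V) s).2 ?_)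
    haveI := hs
    exact inferInstanceAs (IsIso ((lP (f ∣_ V)).map ((DPerf.resD V.ι).map s)))
  refine (NatIso.isIso_map_iff c ((midF f E).map s)).2 ?_
  exact inferInstanceAs (IsIso ((DCoh.Rpush (f ∣_ V)).map ((DPerf.resD (f ⁻¹ᵁ V).ι).map ((midF f E).map s))))

variable [QuasiCompact f] [QuasiSeparated f]

theorem nonempty_isColimit_tgtF [DCoh.HasRpush (f ∣_ V)] (hE : DCoh.IsQCohD (E : DCoh.D X)) {ι : Type u}
    (Z : ι → DCoh.D Y) (hZ : ∀ i, DCoh.IsQCohD ((DPerf.resD V.ι).obj (Z i)))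
    {c : Cocone (Discrete.functor Z)} (hc : IsColimit c) :
    Nonempty (IsColimit ((tgtF f E ⋙ DPerf.resD V.ι).mapCocone c)) := by
  haveI : QuasiCompact (f ∣_ V) := MorphismProperty.IsStableUnderBaseChange.of_isPullback (isPullback_morphismRestrict f V).flip inferInstance
  haveI : QuasiSeparated (f ∣_ V) := MorphismProperty.IsStableUnderBaseChange.of_isPullback (isPullback_morphismRestrict f V).flip inferInstance
  obtain ⟨cV⟩ := DMV.nonempty_restrictD_rpush f V
  haveI := RHom.preservesCoproducts_resD (ι := ι) (f ⁻¹ᵁ V)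
  let G₀ := midF f E ⋙ DPerf.resD (f ⁻¹ᵁ V).ι
  haveI : PreservesColimitsOfShape (Discrete ι) G₀ := inferInstance
  let Z' : ι → DCoh.D (f ⁻¹ᵁ V : Scheme.{u}) := fun i => G₀.obj (Z i)
  haveI := DPush.hasCoproduct_D Z'
  haveI := DPush.hasCoproduct_D fun i => (DCoh.Rpush (f ∣_ V)).obj (Z' i)
  haveI : IsIso (sigmaComparison (DCoh.Rpush (f ∣_ V)) Z') :=
    S1000.result (f ∣_ V) Z' (fun i => isQCohD_midF f V E hE (hZ i))
  haveI : PreservesColimit (Discrete.functor Z') (DCoh.Rpush (f ∣_ V)) := PreservesCoproduct.of_iso_comparison _ _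
  haveI : PreservesColimit (Discrete.functor Z ⋙ G₀) (DCoh.Rpush (f ∣_ V)) :=
    preservesColimit_of_iso_diagram _ (Discrete.natIso fun _ => Iso.refl _ : Discrete.functor Z' ≅ Discrete.functor Z ⋙ G₀)
  let e : G₀ ⋙ DCoh.Rpush (f ∣_ V) ≅ tgtF f E ⋙ DPerf.resD V.ι := Functor.isoWhiskerLeft (midF f E) cV.symm
  exact ⟨(isColimitOfPreserves (G₀ ⋙ DCoh.Rpush (f ∣_ V)) hc).mapCoconeEquiv e⟩

end

section Affine

variable {V} (hV : IsAffineOpen V)

/-- Extension by zero from an affine open, on complexes. -/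
noncomputable abbrev tX : CochainComplex (ModuleCat.{u} Γ(Y, V)) ℤ ⥤ CochainComplex Y.Modules ℤ :=
  DPerf.tildeX Γ(Y, V) ⋙ DPerf.resX hV.isoSpec.hom ⋙ RHom.jCx V

/-- Extension by zero from an affine open. -/
noncomputable abbrev tD : DerivedCategory (ModuleCat.{u} Γ(Y, V)) ⥤ DCoh.D Y :=
  DPerf.tildeDD Γ(Y, V) ⋙ DPerf.resD hV.isoSpec.hom ⋙ CxOX.extZeroD V.ι

/-- `tD` on complexes. -/
noncomputable def tFac : DerivedCategory.Q ⋙ tD hV ≅ tX hV ⋙ DerivedCategory.Q :=
  (Functor.associator _ _ _).symm ≪≫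
    Functor.isoWhiskerRight (tilde.functor Γ(Y, V)).mapDerivedCategoryFactors
      (DPerf.resD hV.isoSpec.hom ⋙ CxOX.extZeroD V.ι) ≪≫
    Functor.isoWhiskerLeft (DPerf.tildeX Γ(Y, V))
      ((Functor.associator _ _ _).symm ≪≫ Functor.isoWhiskerRight (DPerf.resFac hV.isoSpec.hom) (CxOX.extZeroD V.ι) ≪≫
        Functor.isoWhiskerLeft (DPerf.resX hV.isoSpec.hom) (CxOX.extZero V.ι).mapDerivedCategoryFactors)

theorem preservesCoproducts_tD (ι : Type u) : PreservesColimitsOfShape (Discrete ι) (tD hV) := by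
  haveI : PreservesColimitsOfShape (Discrete ι) (tX hV) := by
    haveI : PreservesColimitsOfShape (Discrete ι) (DPerf.tildeX Γ(Y, V)) :=
      (KInjLib.adjComplexes (tilde.adjunction (R := Γ(Y, V)))
        (ComplexShape.up ℤ)).leftAdjoint_preservesColimits.preservesColimitsOfShape
    haveI : PreservesColimitsOfShape (Discrete ι) (DPerf.resX hV.isoSpec.hom) :=
      (KInjLib.adjComplexes (Scheme.Modules.restrictAdjunction hV.isoSpec.hom)
        (ComplexShape.up ℤ)).leftAdjoint_preservesColimits.preservesColimitsOfShape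
    haveI : PreservesColimitsOfShape (Discrete ι) (RHom.jCx V) :=
      (KInjLib.adjComplexes (CxOX.extZeroAdj V.ι)
        (ComplexShape.up ℤ)).leftAdjoint_preservesColimits.preservesColimitsOfShape
    infer_instance
  exact RHom.preservesCoproducts_of_adapted (fun Z => preservesColimit_of_preserves_colimit_cocone (coproductIsCoproduct Z)
      ((Cofan.isColimitMapCoconeEquiv _ _ _).symm (KInjLib.isColimitSigma Z)))
    (tD hV) (fun _ => True) (fun K => ⟨K, 𝟙 K, trivial, inferInstance⟩) (fun _ _ => trivial)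
    (tFac hV).hom (fun K _ => inferInstance)

theorem isQCohD_tD (M : DerivedCategory (ModuleCat.{u} Γ(Y, V))) :
    DCoh.IsQCohD ((DPerf.resD V.ι).obj ((tD hV).obj M)) :=
  DQC.isQCohD_of_iso (DMV.restrictExtZeroIso V _).symm (DQC.isQCohD_resD _ (DQC.isQCohD_obj M))

theorem exists_comparison (a : ℤ) :
    ∃ s : (tD hV).obj (DerivedCategory.Q.obj ((HomologicalComplex.single (ModuleCat.{u} Γ(Y, V)) (ComplexShape.up ℤ) a).obj
        (ModuleCat.of Γ(Y, V) Γ(Y, V)))) ⟶
      DerivedCategory.Q.obj ((HomologicalComplex.single Y.Modules (ComplexShape.up ℤ) a).obj (Coh.structureModule Y)),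
    IsIso ((DPerf.resD V.ι).map s) := by
  obtain ⟨g, hg⟩ := RHom.exists_genMap (X := Y) V
  let R := Γ(Y, V)
  let e := hV.isoSpec.hom
  let u₁ : (Scheme.Modules.restrictFunctor e).obj ((tilde.functor R).obj (ModuleCat.of R R)) ≅
      Coh.structureModule (V : Scheme.{u}) :=
    (Scheme.Modules.restrictFunctor e).mapIso tildeSelf ≪≫ Scheme.Modules.restrictUnitIso e
  let h : (CxOX.extZero V.ι).obj ((Scheme.Modules.restrictFunctor e).obj ((tilde.functor R).obj (ModuleCat.of R R))) ⟶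
      Coh.structureModule Y := (CxOX.extZero V.ι).map u₁.hom ≫ g
  haveI : IsIso ((Scheme.Modules.restrictFunctor V.ι).map h) := by
    rw [Functor.map_comp]
    infer_instance
  let sX := (CxOX.extZero V.ι).mapHomologicalComplex (ComplexShape.up ℤ)
  let i₁ := (tFac hV).app ((HomologicalComplex.single (ModuleCat.{u} R) (ComplexShape.up ℤ) a).obj (ModuleCat.of R R))
  let i₂ : (tX hV).obj ((HomologicalComplex.single (ModuleCat.{u} R) (ComplexShape.up ℤ) a).obj (ModuleCat.of R R)) ≅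
      (HomologicalComplex.single Y.Modules (ComplexShape.up ℤ) a).obj
        ((CxOX.extZero V.ι).obj ((Scheme.Modules.restrictFunctor e).obj ((tilde.functor R).obj (ModuleCat.of R R)))) :=
    sX.mapIso ((DPerf.resX e).mapIso
        ((HomologicalComplex.singleMapHomologicalComplex (tilde.functor R) (ComplexShape.up ℤ) a).app _) ≪≫
      (HomologicalComplex.singleMapHomologicalComplex (Scheme.Modules.restrictFunctor e) (ComplexShape.up ℤ) a).app _) ≪≫
      (HomologicalComplex.singleMapHomologicalComplex (CxOX.extZero V.ι) (ComplexShape.up ℤ) a).app _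
  let m := (HomologicalComplex.single Y.Modules (ComplexShape.up ℤ) a).map h
  haveI : IsIso ((DPerf.resX V.ι).map m) :=
    (NatIso.isIso_map_iff (HomologicalComplex.singleMapHomologicalComplex (Scheme.Modules.restrictFunctor V.ι)
      (ComplexShape.up ℤ) a) h).2 (inferInstanceAs (IsIso ((HomologicalComplex.single _ (ComplexShape.up ℤ) a).map
        ((Scheme.Modules.restrictFunctor V.ι).map h))))
  haveI : IsIso ((DPerf.resD V.ι).map (DerivedCategory.Q.map m)) :=
    (NatIso.isIso_map_iff (DPerf.resFac V.ι) m).2 (inferInstanceAs (IsIso (DerivedCategory.Q.map ((DPerf.resX V.ι).map m))))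
  refine ⟨i₁.hom ≫ DerivedCategory.Q.map i₂.hom ≫ DerivedCategory.Q.map m, ?_⟩
  rw [Functor.map_comp, Functor.map_comp]
  infer_instance

theorem exists_extension_hom (A : DCoh.D Y) (hA : DCoh.IsQCohD A) :
    ∃ (M : DerivedCategory (ModuleCat.{u} Γ(Y, V))) (s : (tD hV).obj M ⟶ A), IsIso ((DPerf.resD V.ι).map s) := by
  let K := (DerivedCategory.Q (C := Y.Modules)).objPreimage A
  let eK : DerivedCategory.Q.obj K ≅ A := DerivedCategory.Q.objObjPreimageIso A
  let C : DCoh.D (V : Scheme.{u}) := DerivedCategory.Q.obj ((DPerf.resX V.ι).obj K)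
  let eC : (DPerf.resD V.ι).obj A ≅ C := (DPerf.resD V.ι).mapIso eK.symm ≪≫ (DPerf.resFac V.ι).app K
  let e := hV.isoSpec.hom
  let e' := hV.isoSpec.inv
  obtain ⟨M, ⟨eM⟩⟩ := DQC.exists_iso_of_isQCohD ((DPerf.resD e').obj C)
    (DQC.isQCohD_resD _ (DQC.isQCohD_of_iso eC (DQC.isQCohD_resD _ hA)))
  let back : (DPerf.resD e).obj ((DPerf.resD e').obj C) ≅ C :=
    (DPerf.resD e).mapIso ((DPerf.resFac e').app _) ≪≫ (DPerf.resFac e).app _ ≪≫
      DerivedCategory.Q.mapIso (((DPerf.resFacIso e' e (i := 𝟙 (V : Scheme.{u})) hV.isoSpec.hom_inv_id).app _).symm ≪≫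
        (NatIso.mapHomologicalComplex Scheme.Modules.restrictFunctorId (ComplexShape.up ℤ)).app _ ≪≫
        (Functor.mapHomologicalComplexIdIso _ _).app _)
  let i₁ : (tD hV).obj M ≅ DerivedCategory.Q.obj ((RHom.jCx V).obj ((DPerf.resX V.ι).obj K)) :=
    (CxOX.extZeroD V.ι).mapIso ((DPerf.resD e).mapIso eM ≪≫ back) ≪≫
      (CxOX.extZero V.ι).mapDerivedCategoryFactors.app _
  let m : (RHom.jCx V).obj ((DPerf.resX V.ι).obj K) ⟶ K :=
    { f := fun i => (CxOX.extZeroAdj V.ι).counit.app (K.X i)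
      comm' := fun i j _ => ((CxOX.extZeroAdj V.ι).counit.naturality (K.d i j)).symm }
  haveI : IsIso ((DPerf.resX V.ι).map m) := by
    haveI : ∀ i, IsIso (((DPerf.resX V.ι).map m).f i) := fun i => by
      have h1 := (CxOX.extZeroAdj V.ι).right_triangle_components (K.X i)
      haveI : IsIso ((CxOX.extZeroAdj V.ι).unit.app ((Scheme.Modules.restrictFunctor V.ι).obj (K.X i)) ≫
          (Scheme.Modules.restrictFunctor V.ι).map ((CxOX.extZeroAdj V.ι).counit.app (K.X i))) := by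
        rw [h1]
        infer_instance
      exact IsIso.of_isIso_comp_left ((CxOX.extZeroAdj V.ι).unit.app ((Scheme.Modules.restrictFunctor V.ι).obj (K.X i)))
        ((Scheme.Modules.restrictFunctor V.ι).map ((CxOX.extZeroAdj V.ι).counit.app (K.X i)))
    exact HomologicalComplex.Hom.isIso_of_components _
  haveI : IsIso ((DPerf.resD V.ι).map (DerivedCategory.Q.map m)) :=
    (NatIso.isIso_map_iff (DPerf.resFac V.ι) m).2 (inferInstanceAs (IsIso (DerivedCategory.Q.map ((DPerf.resX V.ι).map m))))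
  refine ⟨M, i₁.hom ≫ DerivedCategory.Q.map m ≫ eK.hom, ?_⟩
  rw [Functor.map_comp, Functor.map_comp]
  infer_instance

end Affine

variable [DCoh.HasRpush f] [QuasiCompact f] [QuasiSeparated f]

theorem isIso_projV_tD {V : Y.Opens} (hV : IsAffineOpen V) [DCoh.HasRpush (f ∣_ V)] (E : DM X)
    (hE : DCoh.IsQCohD (E : DCoh.D X)) (M : DerivedCategory (ModuleCat.{u} Γ(Y, V))) :
    IsIso ((projV f V E).app ((tD hV).obj M)) := by
  let R := Γ(Y, V)
  let T := tD hV
  obtain ⟨cs, hR⟩ := DPush.exists_commShift_isTriangulated f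
  letI := cs
  haveI := hR
  have hF : ∀ j, RHom.HExact ((srcF f E ⋙ DPerf.resD V.ι) ⋙ DerivedCategory.homologyFunctor _ j) := fun j =>
    hExact_comp (srcF f E) (homExact_of_isLeftAdjoint _) (DPerf.resD V.ι) j
  have hG : ∀ j, RHom.HExact ((tgtF f E ⋙ DPerf.resD V.ι) ⋙ DerivedCategory.homologyFunctor _ j) := fun j =>
    hExact_comp (midF f E) (homExact_of_isLeftAdjoint _) (DCoh.Rpush f ⋙ DPerf.resD V.ι) j
  let P : DerivedCategory (ModuleCat.{u} R) → Prop := fun N => ∀ n : ℤ, IsIso ((projV f V E).app (T.obj (N⟦n⟧)))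
  have hP : Loc P :=
    { iso := fun e h n => (NatTrans.isIso_app_iff_of_iso _ (T.mapIso ((shiftFunctor _ n).mapIso e))).1 (h n)
      zero := fun {Z} hZ n => by
        have hz : IsZero (T.obj (Z⟦n⟧)) := T.map_isZero ((shiftFunctor _ n).map_isZero hZ)
        haveI : (srcF f E ⋙ DPerf.resD V.ι).PreservesZeroMorphisms := inferInstance
        haveI : (tgtF f E ⋙ DPerf.resD V.ι).PreservesZeroMorphisms := inferInstance
        exact ((srcF f E ⋙ DPerf.resD V.ι).map_isZero hz).isIso ((tgtF f E ⋙ DPerf.resD V.ι).map_isZero hz) _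
      shift := fun {Z} m h n => (NatTrans.isIso_app_iff_of_iso _
        (T.mapIso ((shiftFunctorAdd _ m n).app Z))).1 (h (m + n))
      cone := fun T₀ hT₀ h₁ h₂ n => by
        have hd := T.map_distinguished _ (Triangle.shift_distinguished T₀ hT₀ n)
        refine RHom.isIso_of_isIso_homology _ fun j => ?_
        have hs : ∀ N : DerivedCategory (ModuleCat.{u} R), P N →
            IsIso ((projV f V E).app ((T.obj (N⟦n⟧))⟦(1 : ℤ)⟧)) := fun N hN =>
          (NatTrans.isIso_app_iff_of_iso _ (T.mapIso ((shiftFunctorAdd _ n (1 : ℤ)).app N) ≪≫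
            (T.commShiftIso (1 : ℤ)).app _)).1 (hN (n + 1))
        have hmap : ∀ N : DCoh.D Y, IsIso ((projV f V E).app N) →
            IsIso ((Functor.whiskerRight (projV f V E) (DerivedCategory.homologyFunctor _ j)).app N) := fun N hN =>
          haveI := hN
          inferInstanceAs (IsIso ((DerivedCategory.homologyFunctor _ j).map ((projV f V E).app N)))
        exact RHom.isIso_app_obj₃ (hF j) (hG j) (Functor.whiskerRight (projV f V E) _) _ hd
          (hmap _ (h₁ n)) (hmap _ (h₂ n)) (hmap _ (hs _ h₁)) (hmap _ (hs _ h₂))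
      coprod := fun {ι} Z h n => by
        haveI := DCompact9.preservesColimitsOfShape_Q (R := R) (Equiv.refl ι)
        haveI : PreservesColimitsOfShape (Discrete ι) (T : _ ⥤ DCoh.D Y) := preservesCoproducts_tD hV ι
        haveI : PreservesColimitsOfShape (Discrete ι) (DPerf.resD V.ι) := RHom.preservesCoproducts_resD V
        let H : CochainComplex (ModuleCat.{u} R) ℤ ⥤ DCoh.D Y := DerivedCategory.Q ⋙ shiftFunctor _ n ⋙ T
        have hc := isColimitOfPreserves H (coproductIsCoproduct Z)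
        let W : ι → DCoh.D Y := fun i => H.obj (Z i)
        let d : Discrete.functor W ≅ Discrete.functor Z ⋙ H := Discrete.natIso fun _ => Iso.refl _
        have hc' := (IsColimit.precomposeHomEquiv d _).symm hc
        obtain ⟨hG'⟩ := nonempty_isColimit_tgtF f V E hE W (fun i => isQCohD_tD hV _) hc'
        haveI : PreservesColimit (Discrete.functor W) (tgtF f E ⋙ DPerf.resD V.ι) :=
          preservesColimit_of_preserves_colimit_cocone hc' hG'
        exact RHom.isIso_app_of_isColimit (projV f V E) hc' fun i => h i.as n }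
  have hgen : ∀ a : ℤ, P (DerivedCategory.Q.obj
      ((HomologicalComplex.single (ModuleCat.{u} R) (ComplexShape.up ℤ) a).obj (ModuleCat.of R R))) := by
    intro a n
    let sh : (DerivedCategory.Q.obj ((HomologicalComplex.single (ModuleCat.{u} R) (ComplexShape.up ℤ) a).obj
        (ModuleCat.of R R)))⟦n⟧ ≅ DerivedCategory.Q.obj
          ((HomologicalComplex.single (ModuleCat.{u} R) (ComplexShape.up ℤ) (a - n)).obj (ModuleCat.of R R)) :=
      ((DerivedCategory.Q.commShiftIso n).app _).symm ≪≫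
        DerivedCategory.Q.mapIso (((CochainComplex.singleFunctors _).shiftIso n (a - n) a (by omega)).app _)
    refine (NatTrans.isIso_app_iff_of_iso _ (T.mapIso sh)).2 ?_
    obtain ⟨s, hs⟩ := exists_comparison hV (a - n)
    haveI := isIso_srcF_map f V E s hs
    haveI := isIso_tgtF_map f V E s hs
    haveI := isIso_projV_single f V E (a - n)
    haveI : IsIso ((projV f V E).app (T.obj _) ≫ (tgtF f E ⋙ DPerf.resD V.ι).map s) := by
      rw [← (projV f V E).naturality s]
      infer_instance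
    exact IsIso.of_isIso_comp_right _ ((tgtF f E ⋙ DPerf.resD V.ι).map s)
  have hsep : IsSeparator (ModuleCat.of R R) := (isSeparator_def _).2 fun {A B} g g' hh => by
    ext x
    have h1 := congrArg (fun t => t.hom 1) (hh (ModuleCat.ofHom (LinearMap.toSpanSingleton R A x)))
    simpa using h1
  have h := hP.all (ModuleCat.of R R) hsep hgen M 0
  exact (NatTrans.isIso_app_iff_of_iso _ (T.mapIso ((shiftFunctorZero _ ℤ).app M))).1 h

theorem isIso_projT (E : DM X) (hE : DCoh.IsQCohD (E : DCoh.D X)) (A : DCoh.D Y) (hA : DCoh.IsQCohD A) :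
    IsIso ((projT f E).app A) := by
  refine RHom.isIso_of_cover _ fun y => ?_
  suffices hh : ∀ (V : Y.Opens), IsAffineOpen V → IsIso ((DPerf.resD V.ι).map ((projT f E).app A)) by
    obtain ⟨V, hV, hy, -⟩ := TopologicalSpace.Opens.isBasis_iff_nbhd.1 Y.isBasis_affineOpens (U := ⊤) (x := y) trivial
    exact ⟨V, hy, hh V hV⟩
  intro V hV
  haveI : DCoh.HasRpush (f ∣_ V) := KInjLib.hasRightDerivedFunctor KInjLib.enoughKInj_of_grothendieck _
  obtain ⟨M, s, hs⟩ := exists_extension_hom hV A hA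
  haveI := isIso_srcF_map f V E s hs
  haveI := isIso_tgtF_map f V E s hs
  haveI := isIso_projV_tD f hV E hE M
  haveI : IsIso ((srcF f E ⋙ DPerf.resD V.ι).map s ≫ (projV f V E).app A) := by
    rw [(projV f V E).naturality s]
    infer_instance
  exact IsIso.of_isIso_comp_left ((srcF f E ⋙ DPerf.resD V.ι).map s) ((projV f V E).app A)

/-- The projection formula. -/
theorem nonempty_projection_qc [DCoh.HasLpull f] (E : DCoh.D X) (hE : DCoh.IsQCohD E)
    (K : CochainComplex Y.Modules ℤ) (hK : DCoh.IsQCohD (DCoh.toD Y K)) [DCoh.HasLTensorCx K]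
    (M : CochainComplex X.Modules ℤ) (hM : Nonempty (DCoh.toD X M ≅ (DCoh.Lpull f).obj (DCoh.toD Y K)))
    [DCoh.HasLTensorCx M] :
    Nonempty ((DCoh.LTensorCx K).obj ((DCoh.Rpush f).obj E) ≅
      (DCoh.Rpush f).obj ((DCoh.LTensorCx M).obj E)) := by
  obtain ⟨K', ⟨eK⟩, hK'⟩ := nonempty_ltensor_iso K
  obtain ⟨M', ⟨eM⟩, hM'⟩ := nonempty_ltensor_iso M
  obtain ⟨a⟩ := hK' ((DCoh.Rpush f).obj E)
  obtain ⟨b⟩ := hM' E
  obtain ⟨m⟩ := hM
  obtain ⟨l⟩ := nonempty_lpull_iso_lP f (DCoh.toD Y K)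
  let EM : DM X := E
  let eL : (dPull f).obj ((qM Y).obj K') ≅ (qM X).obj M' :=
    ((lP f).mapIso eK ≪≫ l.symm ≪≫ m.symm ≪≫ eM.symm :)
  haveI := isIso_projT f EM hE ((qK Y).obj K') (DQC.isQCohD_of_iso eK.symm hK)
  let p : (tR K').obj ((DCoh.Rpush f).obj E) ≅ (DCoh.Rpush f).obj ((midF f EM).obj ((qK Y).obj K')) :=
    asIso ((projT f EM).app ((qK Y).obj K'))
  let w : (midF f EM).obj ((qK Y).obj K') ≅ (tR M').obj E := whiskerLeftIso EM eL
  exact ⟨a ≪≫ p ≪≫ (DCoh.Rpush f).mapIso (w ≪≫ b.symm)⟩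

end Groth.Agent.DMon9
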