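import Groth.Agent.Lib.DMon9.Mod
import Groth.Agent.Lib.TensorMod.PullTensor
import Groth.Agent.Lib.KFlat.LpullTensor
import Groth.Prelude.Def_PicLoc

/-! Pullback of modules is a monoidal functor. -/

set_option autoImplicit false
set_option linter.unusedSectionVars false
set_option backward.isDefEq.respectTransparency false
set_option backward.isDefEq.respectTransparency.types false
set_option maxHeartbeats 400000

universe u

open CategoryTheory MonoidalCategory AlgebraicGeometry Opposite

namespace Groth.Agent.DMon9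

open M2 KFlat.Sch

variable {X Y : Scheme.{u}} (f : Y ⟶ X)

/-- Morphisms out of a pullback are determined on pulled-back sections. -/
theorem pull_hom_ext {M : X.Modules} {K : Y.Modules} {φ ψ : (Scheme.Modules.pullback f).obj M ⟶ K}
    (h : ((Scheme.Modules.pullbackPushforwardAdjunction f).homEquiv _ _ φ) =
      ((Scheme.Modules.pullbackPushforwardAdjunction f).homEquiv _ _ ψ)) : φ = ψ :=
  ((Scheme.Modules.pullbackPushforwardAdjunction f).homEquiv _ _).injective h

theorem comp_app_apply {A B C : Y.Modules} (g : A ⟶ B) (h : B ⟶ C) (U : Y.Opens) (z : Γ(A, U)) :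
    (g ≫ h).app U z = h.app U (g.app U z) := rfl

theorem homEquiv_app_apply {M : X.Modules} {K : Y.Modules} (φ : (Scheme.Modules.pullback f).obj M ⟶ K)
    (U : X.Opens) (z : Γ(M, U)) :
    ((Scheme.Modules.pullbackPushforwardAdjunction f).homEquiv _ _ φ).app U z = φ.app (f ⁻¹ᵁ U) (pullSec f M z) := by
  rw [Adjunction.homEquiv_unit]
  rfl

theorem pull_map_pullSec {A B : X.Modules} (g : A ⟶ B) {U : X.Opens} (z : Γ(A, U)) :
    ((Scheme.Modules.pullback f).map g).app (f ⁻¹ᵁ U) (pullSec f A z) = pullSec f B (g.app U z) :=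
  (congrArg (fun φ => φ.app U z) ((Scheme.Modules.pullbackPushforwardAdjunction f).unit.naturality g)).symm

theorem pull_assoc (A B C : X.Modules) :
    (Scheme.Modules.pullback f).map (tensorAssoc A B C).hom ≫ pullCmp f A (CohB1.tensorMod B C) ≫
      tensorMap (𝟙 _) (pullCmp f B C) =
    pullCmp f (CohB1.tensorMod A B) C ≫ tensorMap (pullCmp f A B) (𝟙 _) ≫
      (tensorAssoc ((Scheme.Modules.pullback f).obj A) ((Scheme.Modules.pullback f).obj B)
        ((Scheme.Modules.pullback f).obj C)).hom := by
  refine pull_hom_ext f (hom_ext₃ fun U a b c => ?_)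
  rw [homEquiv_app_apply f, homEquiv_app_apply f]
  rw [comp_app_apply, comp_app_apply, comp_app_apply, comp_app_apply]
  rw [pull_map_pullSec, tensorAssoc_tsec, pullCmp_pullSec, pullCmp_pullSec]
  rw [tensorMap_tsec (𝟙 ((Scheme.Modules.pullback f).obj A)) (pullCmp f B C) (pullSec f A a)
      (pullSec f (CohB1.tensorMod B C) (tsec B C b c)),
    tensorMap_tsec (pullCmp f A B) (𝟙 ((Scheme.Modules.pullback f).obj C))
      (pullSec f (CohB1.tensorMod A B) (tsec A B a b)) (pullSec f C c),
    pullCmp_pullSec f B C b c, pullCmp_pullSec f A B a b]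
  exact (tensorAssoc_tsec _ _ _ (pullSec f A a) (pullSec f B b) (pullSec f C c)).symm

/-- `f^* O_X ≅ O_Y`. -/
noncomputable abbrev pullOne : (Scheme.Modules.pullback f).obj (Coh.structureModule X) ≅ Coh.structureModule Y :=
  PicLoc.pullbackStructureIso f

theorem pullOne_pullSec {U : X.Opens} (r : Γ(Coh.structureModule X, U)) :
    (pullOne f).hom.app (f ⁻¹ᵁ U) (pullSec f _ r) = f.app U r := by
  have h : (Scheme.Modules.pullbackPushforwardAdjunction f).homEquiv _ _ (pullOne f).hom =
      SheafOfModules.unitToPushforwardObjUnit f.toRingCatSheafHom :=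
    SheafOfModules.pullbackPushforwardAdjunction_homEquiv_pullbackObjUnitToUnit f.toRingCatSheafHom
  rw [Adjunction.homEquiv_unit] at h
  exact congrArg (fun φ => φ.app U r) h

theorem pull_lunit (A : X.Modules) :
    pullCmp f (Coh.structureModule X) A ≫ tensorMap (pullOne f).hom (𝟙 _) ≫
      (tensorLUnit ((Scheme.Modules.pullback f).obj A)).hom = (Scheme.Modules.pullback f).map (tensorLUnit A).hom := by
  refine pull_hom_ext f (tensorMod_hom_ext fun U r a => ?_)
  rw [homEquiv_app_apply f, homEquiv_app_apply f]
  rw [comp_app_apply, comp_app_apply]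
  rw [pull_map_pullSec, tensorLUnit_tsec, pullCmp_pullSec]
  rw [tensorMap_tsec (pullOne f).hom (𝟙 ((Scheme.Modules.pullback f).obj A))
      (pullSec f (Coh.structureModule X) r) (pullSec f A a), pullOne_pullSec f r]
  exact (tensorLUnit_tsec _ (f.app U r) (pullSec f A a)).trans (pullSec_smul f A r a).symm

theorem pull_runit (A : X.Modules) :
    pullCmp f A (Coh.structureModule X) ≫ tensorMap (𝟙 _) (pullOne f).hom ≫
      (tensorRUnit ((Scheme.Modules.pullback f).obj A)).hom = (Scheme.Modules.pullback f).map (tensorRUnit A).hom := by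
  refine pull_hom_ext f (tensorMod_hom_ext fun U a r => ?_)
  rw [homEquiv_app_apply f, homEquiv_app_apply f]
  rw [comp_app_apply, comp_app_apply]
  rw [pull_map_pullSec, tensorRUnit_tsec, pullCmp_pullSec]
  rw [tensorMap_tsec (𝟙 ((Scheme.Modules.pullback f).obj A)) (pullOne f).hom
      (pullSec f A a) (pullSec f (Coh.structureModule X) r), pullOne_pullSec f r]
  exact (tensorRUnit_tsec _ (pullSec f A a) (f.app U r)).trans (pullSec_smul f A r a).symm

/-- Pullback of modules, monoidally. -/
noncomputable def pullCore : (Scheme.Modules.pullback f).CoreMonoidal :=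
  Functor.CoreMonoidal.mk' (pullOne f).symm (fun A B => (pullTensorIso₂ f A B).symm)
    (fun {A B} g C => ((natural_pullTensorIso₂ f).left g C).symm)
    (fun {B C} A g => ((natural_pullTensorIso₂ f).right A g).symm)
    (fun A B C => by
      refine Eq.trans ?_ (Eq.trans (pull_assoc f A B C).symm ?_)
      · exact congrArg (pullCmp f (CohB1.tensorMod A B) C ≫ ·)
          (congrArg (· ≫ _) (RHom.map_eq_tensorMap_left (pullCmp f A B) _))
      · exact congrArg (_ ≫ ·) (congrArg (_ ≫ ·) (RHom.map_eq_tensorMap_right _ (pullCmp f B C)).symm))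
    (fun A => by
      have h : pullCmp f (Coh.structureModule X) A ≫
          (pullOne f).hom ▷ (Scheme.Modules.pullback f).obj A ≫ (λ_ ((Scheme.Modules.pullback f).obj A)).hom =
          (Scheme.Modules.pullback f).map (λ_ A).hom :=
        (congrArg (fun t => pullCmp f (Coh.structureModule X) A ≫ t ≫ (λ_ ((Scheme.Modules.pullback f).obj A)).hom)
          (RHom.map_eq_tensorMap_left (pullOne f).hom _)).trans (pull_lunit f A)
      change (λ_ _).inv = (Scheme.Modules.pullback f).map (λ_ A).inv ≫ pullCmp f (Coh.structureModule X) A ≫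
        (pullOne f).hom ▷ (Scheme.Modules.pullback f).obj A
      rw [← cancel_mono (λ_ ((Scheme.Modules.pullback f).obj A)).hom, Iso.inv_hom_id, Category.assoc, Category.assoc]
      refine ((congrArg (_ ≫ ·) h).trans ?_).symm
      rw [← Functor.map_comp, Iso.inv_hom_id, CategoryTheory.Functor.map_id])
    (fun A => by
      have h : pullCmp f A (Coh.structureModule X) ≫
          (Scheme.Modules.pullback f).obj A ◁ (pullOne f).hom ≫ (ρ_ ((Scheme.Modules.pullback f).obj A)).hom =
          (Scheme.Modules.pullback f).map (ρ_ A).hom :=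
        (congrArg (fun t => pullCmp f A (Coh.structureModule X) ≫ t ≫ (ρ_ ((Scheme.Modules.pullback f).obj A)).hom)
          (RHom.map_eq_tensorMap_right _ (pullOne f).hom)).trans (pull_runit f A)
      change (ρ_ _).inv = (Scheme.Modules.pullback f).map (ρ_ A).inv ≫ pullCmp f A (Coh.structureModule X) ≫
        (Scheme.Modules.pullback f).obj A ◁ (pullOne f).hom
      rw [← cancel_mono (ρ_ ((Scheme.Modules.pullback f).obj A)).hom, Iso.inv_hom_id, Category.assoc, Category.assoc]
      refine ((congrArg (_ ≫ ·) h).trans ?_).symm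
      rw [← Functor.map_comp, Iso.inv_hom_id, CategoryTheory.Functor.map_id])

end Groth.Agent.DMon9
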