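import Groth.Agent.Lib.DMon9.PullD
import Groth.Agent.Lib.KFlat.LTor
import Groth.Agent.Lib.DQC.Pull
import Groth.Agent.Lib.DQC.Tensor
import Groth.Agent.Lib.DPerf.Betti

/-! The monoidal derived pullback: composites, open immersions, comparison with `Lpull`. -/

set_option autoImplicit false
set_option linter.unusedSectionVars false
set_option linter.style.haveILetI false
set_option backward.isDefEq.respectTransparency false
set_option backward.isDefEq.respectTransparency.types false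
set_option maxHeartbeats 800000

universe u

open CategoryTheory CategoryTheory.Limits MonoidalCategory AlgebraicGeometry
open Localization.Monoidal

attribute [local instance] HasDerivedCategory.standard

namespace Groth.Agent.DMon9

open KFlat KFlat.Sch

variable {X Y Z : Scheme.{u}}

/-- Derived pullback along an open immersion is restriction. -/
noncomputable def lPRes (j : X ⟶ Y) [IsOpenImmersion j] : lP j ≅ DPerf.resD j :=
  Localization.liftNatIso (qK Y) (kfW Y) (qK Y ⋙ lP j) (qK Y ⋙ DPerf.resD j) _ _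
    (lPFac j ≪≫ Functor.isoWhiskerLeft (kfP Y).ι
      (Functor.isoWhiskerRight (NatIso.mapHomologicalComplex (Scheme.Modules.restrictFunctorIsoPullback j).symm
        (ComplexShape.up ℤ)) DerivedCategory.Q ≪≫ (DPerf.resFac j).symm) ≪≫ (Functor.associator _ _ _).symm)

/-- Derived pullback of a composite. -/
noncomputable def lPComp (f : X ⟶ Y) (g : Y ⟶ Z) {h : X ⟶ Z} (w : f ≫ g = h) : lP g ⋙ lP f ≅ lP h :=
  Localization.liftNatIso (qK Z) (kfW Z) (qK Z ⋙ lP g ⋙ lP f) (qK Z ⋙ lP h) _ _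
    ((Functor.associator _ _ _).symm ≪≫ Functor.isoWhiskerRight (lPFac g) (lP f) ≪≫
      Functor.isoWhiskerLeft (kfPull g) (lPFac f) ≪≫
      Functor.isoWhiskerLeft (kfP Z).ι (Functor.isoWhiskerRight
        (Functor.mapHomologicalComplexCompIso
          (Scheme.Modules.pullbackComp f g ≪≫ Scheme.Modules.pullbackCongr w) (ComplexShape.up ℤ))
        DerivedCategory.Q) ≪≫ (lPFac h).symm)

/-- The derived pullback agrees with `Lpull` on objects. -/
theorem nonempty_lpull_iso_lP (f : X ⟶ Y) [DCoh.HasLpull f] (A : DCoh.D Y) :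
    Nonempty ((DCoh.Lpull f).obj A ≅ (lP f).obj A) := by
  obtain ⟨K, hK, ⟨e⟩⟩ := KFlat.Sch.exists_adapted_rep A
  exact ⟨(DCoh.Lpull f).mapIso e.symm ≪≫ lpullObjIso f K hK ≪≫ ((lPFac f).app ⟨K, hK.1⟩).symm ≪≫
    (lP f).mapIso e⟩

theorem isQCohD_lP (f : X ⟶ Y) {A : DCoh.D Y} (hA : DCoh.IsQCohD A) : DCoh.IsQCohD ((lP f).obj A) := by
  haveI : DCoh.HasLpull f := KFlat.Sch.hasLpull f
  obtain ⟨e⟩ := nonempty_lpull_iso_lP f A
  exact DQC.isQCohD_of_iso e (DQC.isQCohD_lpull f hA)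

/-- Representatives in K-flat complexes. -/
theorem exists_qM (A : DCoh.D X) : ∃ K : KF X, Nonempty ((qK X).obj K ≅ A) := by
  haveI : (qK X).EssSurj := Localization.essSurj _ (kfW X)
  exact ⟨_, ⟨(qK X).objObjPreimageIso A⟩⟩

/-- Tensor products of quasi-coherent objects are quasi-coherent. -/
theorem isQCohD_tensor {A B : DM X} (hA : DCoh.IsQCohD (A : DCoh.D X)) (hB : DCoh.IsQCohD (B : DCoh.D X)) :
    DCoh.IsQCohD ((A ⊗ B : DM X) : DCoh.D X) := by
  obtain ⟨K, ⟨e⟩⟩ := exists_qM (B : DCoh.D X)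
  let e' : (qM X).obj K ≅ B := e
  haveI := KFlat.Sch.hasLTensorCx K.obj
  let w : (tR K).obj (A : DCoh.D X) ≅ ((A ⊗ B : DM X) : DCoh.D X) := whiskerLeftIso A e'
  refine DQC.isQCohD_of_iso (((theta K).app (A : DCoh.D X)).symm ≪≫ w) ?_
  exact DQC.isQCohD_lTensorCx K.obj (DQC.isQCohD_of_iso e.symm hB) hA

/-- The tensor product with an object represented by a complex. -/
theorem nonempty_ltensor_iso (K : CochainComplex X.Modules ℤ) [DCoh.HasLTensorCx K] :
    ∃ K' : KF X, Nonempty ((qK X).obj K' ≅ DCoh.toD X K) ∧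
      ∀ A : DCoh.D X, Nonempty ((DCoh.LTensorCx K).obj A ≅ (tR K').obj A) := by
  obtain ⟨P, q, hP, hq⟩ := RHom.exists_kflat_res K
  haveI := hq
  haveI : DCoh.HasLTensorCx (⟨P, hP⟩ : KF X).obj := KFlat.Sch.hasLTensorCx _
  haveI := RHom.isIso_ltMap q
  exact ⟨(⟨P, hP⟩ : KF X), ⟨asIso (DerivedCategory.Q.map q)⟩,
    fun A => ⟨(asIso (RHom.ltMap q)).symm.app A ≪≫ ((theta (⟨P, hP⟩ : KF X)).app A).symm⟩⟩

end Groth.Agent.DMon9
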