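import Groth.Agent.Lib.DMon9.KF
import Groth.Agent.Lib.RHom.KNat
import Groth.Agent.Lib.RHom.LeftUnit

/-! The derived tensor product is the localized monoidal product. -/

set_option autoImplicit false
set_option linter.unusedSectionVars false
set_option backward.isDefEq.respectTransparency false
set_option backward.isDefEq.respectTransparency.types false

universe u

open CategoryTheory CategoryTheory.Limits MonoidalCategory AlgebraicGeometry
open Localization.Monoidal

attribute [local instance] HasDerivedCategory.standard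

namespace Groth.Agent.DMon9

open KFlat KFlat.Sch

variable (X : Scheme.{u})

/-- The localization functor, into the monoidal category. -/
noncomputable abbrev qM : KF X ⥤ DM X := toMonoidalCategory (qK X) (kfW X) (εK X)

variable {X}

/-- The tensor isomorphism. -/
noncomputable abbrev muK (A B : KF X) : (qM X).obj A ⊗ (qM X).obj B ≅ (qM X).obj (A ⊗ B) :=
  μ (qK X) (kfW X) (εK X) A B

variable (E : KF X)

/-- Tensoring on the right. -/
noncomputable def tR : DCoh.D X ⥤ DCoh.D X := (tensorRight ((qM X).obj E) : DM X ⥤ DM X)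

/-- Tensoring on the left. -/
noncomputable def tL : DCoh.D X ⥤ DCoh.D X := (tensorLeft ((qM X).obj E) : DM X ⥤ DM X)

variable [DCoh.HasLTensorCx E.obj]

theorem isIso_counitE (A : CochainComplex X.Modules ℤ) : IsIso ((RHom.ltCounit E.obj).app A) :=
  RHom.isIso_counit_of_kflat_right E.obj E.property A

/-- `A ⊗ E ⟶ A ⊗^L E` on K-flat complexes. -/
noncomputable def thetaK : RHom.KNat (tR E) (DCoh.LTensorCx E.obj) where
  app R hR := haveI := isIso_counitE E R
    (muK ⟨R, hR⟩ E).hom ≫ inv ((RHom.ltCounit E.obj).app R)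
  nat {R R'} hR hR' f := by
    haveI := isIso_counitE E R
    haveI := isIso_counitE E R'
    have h1 := μ_natural_left (qK X) (kfW X) (εK X) (X₁ := ⟨R, hR⟩) (X₂ := ⟨R', hR'⟩) (ObjectProperty.homMk f) E
    have h2 : inv ((RHom.ltCounit E.obj).app R) ≫ (DCoh.LTensorCx E.obj).map (DerivedCategory.Q.map f) =
        DerivedCategory.Q.map (((tcx (TX X)).map f).app E.obj) ≫ inv ((RHom.ltCounit E.obj).app R') := by
      rw [IsIso.inv_comp_eq, ← Category.assoc, IsIso.eq_comp_inv]
      exact (RHom.ltCounit E.obj).naturality f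
    refine ((Category.assoc _ _ _).symm.trans ((congrArg (· ≫ inv ((RHom.ltCounit E.obj).app R')) h1).trans
      (Category.assoc _ _ _))).trans ?_
    exact (congrArg ((muK ⟨R, hR⟩ E).hom ≫ ·) h2.symm).trans (Category.assoc _ _ _).symm

/-- `- ⊗ E ≅ - ⊗^L E`. -/
noncomputable def theta : tR E ≅ DCoh.LTensorCx E.obj :=
  haveI : IsIso (thetaK E).lift := by
    rw [NatTrans.isIso_iff_isIso_app]
    intro A
    haveI : (qK X).EssSurj := Localization.essSurj _ (kfW X)
    rw [← NatTrans.isIso_app_iff_of_iso (thetaK E).lift ((qK X).objObjPreimageIso A)]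
    change IsIso ((thetaK E).lift.app (DerivedCategory.Q.obj ((qK X).objPreimage A).obj))
    rw [RHom.KNat.lift_app _ _ ((qK X).objPreimage A).property]
    haveI := isIso_counitE E ((qK X).objPreimage A).obj
    exact inferInstanceAs (IsIso ((muK _ E).hom ≫ inv _))
  asIso (thetaK E).lift

theorem theta_app (R : KF X) :
    (theta E).hom.app (DerivedCategory.Q.obj R.obj) ≫ (RHom.ltCounit E.obj).app R.obj = (muK R E).hom := by
  haveI := isIso_counitE E R.obj
  change (thetaK E).lift.app _ ≫ _ = _
  rw [RHom.KNat.lift_app _ _ R.property]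
  exact (Category.assoc _ _ _).trans ((congrArg (_ ≫ ·) (IsIso.inv_hom_id _)).trans (Category.comp_id _))

/-- Tensoring on the left agrees with tensoring on the right. -/
theorem nonempty_commIso : Nonempty (tL E ≅ tR E) := by
  let c : ∀ R : KF X, (qM X).obj E ⊗ (qM X).obj R ≅ (qM X).obj R ⊗ (qM X).obj E := fun R =>
    muK E R ≪≫ DerivedCategory.Q.mapIso (RHom.commCx E.obj R.obj) ≪≫ (muK R E).symm
  haveI := (qK_isLocalization X)
  refine ⟨Localization.liftNatIso (qK X) (kfW X) (qK X ⋙ tL E) (qK X ⋙ tR E) _ _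
    (NatIso.ofComponents c fun {R R'} f => ?_)⟩
  change (qM X).obj E ◁ (qM X).map f ≫ (c R').hom = (c R).hom ≫ (qM X).map f ▷ (qM X).obj E
  simp only [c, Iso.trans_hom, Iso.symm_hom, Category.assoc]
  refine ((Category.assoc _ _ _).symm.trans (congrArg (· ≫ _) (μ_natural_right (qK X) (kfW X) (εK X) E f))).trans ?_
  refine (Category.assoc _ _ _).trans (congrArg ((muK E R).hom ≫ ·) ?_)
  refine Eq.trans ?_ (congrArg (DerivedCategory.Q.map (RHom.commCx E.obj R.obj).hom ≫ ·)
    (μ_inv_natural_left (qK X) (kfW X) (εK X) f E).symm)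
  refine (Category.assoc _ _ _).symm.trans (Eq.trans ?_ (Category.assoc _ _ _))
  refine congrArg (· ≫ (muK R' E).inv) ?_
  exact (DerivedCategory.Q.map_comp _ _).symm.trans
    ((congrArg DerivedCategory.Q.map (RHom.commCx_natural E.obj f.hom)).trans (DerivedCategory.Q.map_comp _ _))

end Groth.Agent.DMon9
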