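import Groth.Agent.Lib.DMon9.Mod
import Mathlib.Algebra.Homology.Monoidal
import Mathlib.CategoryTheory.GradedObject.Monoidal

/-! The monoidal structure on complexes of modules. -/

set_option autoImplicit false
set_option linter.unusedSectionVars false
set_option backward.isDefEq.respectTransparency false
set_option backward.isDefEq.respectTransparency.types false

universe u

open CategoryTheory CategoryTheory.Limits MonoidalCategory AlgebraicGeometry

namespace Groth.Agent.DMon9

open KFlat KFlat.Sch

variable {X : Scheme.{u}}

instance : ((curriedTensor X.Modules)).Additive := inferInstanceAs (TX X).Additive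
instance (M : X.Modules) : ((curriedTensor X.Modules).obj M).Additive := inferInstanceAs ((TX X).obj M).Additive
instance (M : X.Modules) : PreservesColimitsOfSize.{0, 0} ((curriedTensor X.Modules).obj M) :=
  inferInstanceAs (PreservesColimitsOfSize.{0, 0} ((TX X).obj M))
instance (M : X.Modules) : PreservesColimitsOfSize.{0, 0} ((curriedTensor X.Modules).flip.obj M) :=
  inferInstanceAs (PreservesColimitsOfSize.{0, 0} ((TX X).flip.obj M))

noncomputable scoped instance cxMonoidal : MonoidalCategory (CochainComplex X.Modules ℤ) :=
  HomologicalComplex.monoidalCategory X.Modules (ComplexShape.up ℤ)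

theorem tensorObj_eq (A B : CochainComplex X.Modules ℤ) : A ⊗ B = ((tcx (TX X)).obj A).obj B := rfl

theorem whiskerRight_eq {A A' : CochainComplex X.Modules ℤ} (f : A ⟶ A') (B : CochainComplex X.Modules ℤ) :
    f ▷ B = ((tcx (TX X)).map f).app B := rfl

theorem whiskerLeft_eq (A : CochainComplex X.Modules ℤ) {B B' : CochainComplex X.Modules ℤ} (g : B ⟶ B') :
    A ◁ g = ((tcx (TX X)).obj A).map g := rfl

theorem associator_eq (A B C : CochainComplex X.Modules ℤ) : α_ A B C = RHom.assocCx A B C := rfl

theorem tensorUnit_eq : 𝟙_ (CochainComplex X.Modules ℤ) =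
    (HomologicalComplex.single X.Modules (ComplexShape.up ℤ) 0).obj (Coh.structureModule X) := rfl

end Groth.Agent.DMon9
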