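import Mathlib.CategoryTheory.Monoidal.Rigid.Basic
import Mathlib.Tactic.CategoryTheory.Monoidal.Basic

/-! An evaluation with a universal property is part of an exact pairing. -/

set_option autoImplicit false

universe v u

open CategoryTheory MonoidalCategory

namespace Groth.Agent.DMon9

variable {C : Type u} [Category.{v} C] [MonoidalCategory C] {X Y : C}

theorem exact_pairing_swap (e : Y ⊗ X ⟶ 𝟙_ C) (c : 𝟙_ C ⟶ X ⊗ Y)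
    (hc : c ▷ X ≫ (α_ X Y X).hom ≫ X ◁ e = (λ_ X).hom ≫ (ρ_ X).inv) :
    ((ρ_ Y).inv ≫ Y ◁ c ≫ (α_ Y X Y).inv ≫ e ▷ Y) ▷ X ≫ (α_ (𝟙_ C) Y X).hom ≫ 𝟙_ C ◁ e ≫ (ρ_ (𝟙_ C)).hom =
      (λ_ Y).inv ▷ X ≫ (α_ (𝟙_ C) Y X).hom ≫ 𝟙_ C ◁ e ≫ (ρ_ (𝟙_ C)).hom := by
  calc
    _ = 𝟙 _ ⊗≫ Y ◁ (c ▷ X) ⊗≫ (e ▷ (Y ⊗ X) ≫ 𝟙_ C ◁ e) ⊗≫ 𝟙 _ := by monoidal
    _ = 𝟙 _ ⊗≫ Y ◁ (c ▷ X) ⊗≫ ((Y ⊗ X) ◁ e ≫ e ▷ 𝟙_ C) ⊗≫ 𝟙 _ := by rw [← whisker_exchange]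
    _ = 𝟙 _ ⊗≫ Y ◁ (c ▷ X ≫ (α_ X Y X).hom ≫ X ◁ e) ⊗≫ e ▷ 𝟙_ C ⊗≫ 𝟙 _ := by monoidal
    _ = 𝟙 _ ⊗≫ Y ◁ ((λ_ X).hom ≫ (ρ_ X).inv) ⊗≫ e ▷ 𝟙_ C ⊗≫ 𝟙 _ := by rw [hc]
    _ = 𝟙 _ ⊗≫ 𝟙_ C ◁ e ⊗≫ 𝟙 _ := by monoidal
    _ = _ := by monoidal

/-- An exact pairing from a universal evaluation. -/
theorem nonempty_exactPairing (e : Y ⊗ X ⟶ 𝟙_ C)
    (h : ∀ A T : C, Function.Bijective fun y : T ⟶ A ⊗ Y => y ▷ X ≫ (α_ A Y X).hom ≫ A ◁ e ≫ (ρ_ A).hom) :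
    Nonempty (ExactPairing X Y) := by
  obtain ⟨c, hc⟩ := (h X (𝟙_ C)).2 (λ_ X).hom
  have hc' : c ▷ X ≫ (α_ X Y X).hom ≫ X ◁ e = (λ_ X).hom ≫ (ρ_ X).inv := by
    rw [Iso.eq_comp_inv]
    simpa [Category.assoc] using hc
  refine ⟨{ coevaluation' := c, evaluation' := e, evaluation_coevaluation' := hc', coevaluation_evaluation' := ?_ }⟩
  have key : (ρ_ Y).inv ≫ Y ◁ c ≫ (α_ Y X Y).inv ≫ e ▷ Y = (λ_ Y).inv :=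
    (h (𝟙_ C) Y).1 (exact_pairing_swap e c hc')
  rw [← key, Iso.hom_inv_id_assoc]

end Groth.Agent.DMon9
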