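import Groth.Agent.Lib.DMon9.Cx
import Groth.Agent.Lib.RHom.Shift

/-! The right unitor of complexes of modules. -/

set_option autoImplicit false
set_option linter.unusedSectionVars false
set_option backward.isDefEq.respectTransparency false
set_option backward.isDefEq.respectTransparency.types false
set_option maxHeartbeats 400000

universe u

open CategoryTheory CategoryTheory.Limits MonoidalCategory AlgebraicGeometry

namespace Groth.Agent.DMon9

open KFlat KFlat.Sch

variable {X : Scheme.{u}}

theorem rightUnitor_eq (R : CochainComplex X.Modules ℤ) : (ρ_ R).hom = RHom.unitCx.hom.app R := by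
  rw [← cancel_epi (ρ_ R).inv, Iso.inv_hom_id]
  refine HomologicalComplex.hom_ext _ _ fun m => ?_
  rw [HomologicalComplex.id_f, HomologicalComplex.comp_f]
  have h0 : (ρ_ R).inv = (HomologicalComplex.rightUnitor R).inv := rfl
  have h1 : (HomologicalComplex.rightUnitor R).inv.f m = (HomologicalComplex.rightUnitor' R).inv m := by
    simp [HomologicalComplex.rightUnitor]
  have h : (ρ_ R).inv.f m = (ρ_ (R.X m)).inv ≫
      (R.X m ◁ (HomologicalComplex.singleObjXSelf (ComplexShape.up ℤ) 0 (𝟙_ X.Modules)).inv) ≫
        HomologicalComplex.ιTensorObj R (HomologicalComplex.tensorUnit X.Modules (ComplexShape.up ℤ)) m 0 m (add_zero m) :=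
    ((congrArg (fun φ => HomologicalComplex.Hom.f φ m) h0).trans h1).trans (HomologicalComplex.rightUnitor'_inv R m)
  rw [h, Category.assoc, Category.assoc]
  have e : HomologicalComplex.ιTensorObj R (HomologicalComplex.tensorUnit X.Modules (ComplexShape.up ℤ)) m 0 m
        (add_zero m) ≫ (RHom.unitCx.hom.app R).f m =
      R.X m ◁ (HomologicalComplex.singleObjXSelf (ComplexShape.up ℤ) 0 (𝟙_ X.Modules)).hom ≫ (ρ_ (R.X m)).hom :=
    RHom.ι_unitCx R m
  symm
  rw [Iso.inv_comp_eq, Category.comp_id, e, ← MonoidalCategory.whiskerLeft_comp_assoc, Iso.inv_hom_id,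
    MonoidalCategory.whiskerLeft_id, Category.id_comp]

end Groth.Agent.DMon9
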