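import Groth.Agent.Lib.DMon9.LT
import Groth.Agent.Lib.DMon9.Unit
import Groth.Agent.Lib.DMon9.ExactPair
import Groth.Agent.Lib.RHom.Dual
import Groth.Agent.Lib.RHom.DualPerf

/-! The dual of a perfect complex is an exact pairing; biduality. -/

set_option autoImplicit false
set_option linter.unusedSectionVars false
set_option linter.style.haveILetI false
set_option backward.isDefEq.respectTransparency false
set_option backward.isDefEq.respectTransparency.types false
set_option maxHeartbeats 1600000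

universe u

open CategoryTheory CategoryTheory.Limits MonoidalCategory AlgebraicGeometry
open Localization.Monoidal

attribute [local instance] HasDerivedCategory.standard

namespace Groth.Agent.DMon9

open KFlat KFlat.Sch

variable {X : Scheme.{u}} {K D : KF X} [DCoh.HasLTensorCx K.obj] [DCoh.HasLTensorCx D.obj]
  (e : RHom.Pairing K.obj D.obj)

/-- The backward map on K-flat complexes. -/
noncomputable def sK : (kfRes X).obj e.Z ⟶ D ⊗ K := ObjectProperty.homMk (resπ (cover X) e.Z ≫ e.s)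

/-- The forward map on K-flat complexes. -/
noncomputable def gK : (kfRes X).obj e.Z ⟶ 𝟙_ (KF X) := ObjectProperty.homMk (resπ (cover X) e.Z ≫ e.g)

theorem isIso_sK : IsIso ((qM X).map (sK e)) := by
  haveI := e.hs
  haveI := quasiIso_resπ (cover X) e.Z
  exact Localization.inverts (qK X) (kfW X) (sK e)
    (show QuasiIso (resπ (cover X) e.Z ≫ e.s) from inferInstance)

/-- The evaluation. -/
noncomputable def evM : (qM X).obj D ⊗ (qM X).obj K ⟶ 𝟙_ (DM X) :=
  haveI := isIso_sK e
  (muK D K).hom ≫ inv ((qM X).map (sK e)) ≫ (qM X).map (gK e)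

/-- Pairing on the right. -/
noncomputable def evR : (tensorRight ((qM X).obj D) ⋙ tensorRight ((qM X).obj K) : DM X ⥤ DM X) ⟶ 𝟭 (DM X) where
  app A := (α_ A ((qM X).obj D) ((qM X).obj K)).hom ≫ A ◁ evM e ≫ (ρ_ A).hom
  naturality A B f := by
    dsimp
    rw [MonoidalCategory.associator_naturality_left_assoc, ← MonoidalCategory.whisker_exchange_assoc,
      MonoidalCategory.rightUnitor_naturality, Category.assoc, Category.assoc]

theorem core_eq (R : KF X) :
    haveI : IsIso ((qM X).map (R ◁ sK e)) := Localization.inverts (qK X) (kfW X) _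
      (MorphismProperty.whiskerLeft_mem _ R _ (by
        haveI := e.hs
        haveI := quasiIso_resπ (cover X) e.Z
        exact (show QuasiIso (resπ (cover X) e.Z ≫ e.s) from inferInstance)))
    DerivedCategory.Q.map (RHom.assocCx R.obj D.obj K.obj).hom ≫ inv ((qM X).map (R ◁ sK e)) ≫
      (qM X).map (R ◁ gK e) ≫ (qM X).map (ρ_ R).hom = RHom.core e R.obj R.property := by
  haveI := RHom.isIso_map_s e R.property
  haveI : QuasiIso (((tcx (TX X)).obj R.obj).map (resπ (cover X) e.Z)) :=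
    haveI := quasiIso_resπ (cover X) e.Z
    IsKFlat.quasiIso_map₂ ((isKFlat_flip_iff' _).2 R.property) _
  let q := DerivedCategory.Q.map (((tcx (TX X)).obj R.obj).map (resπ (cover X) e.Z))
  have e1 : (qM X).map (R ◁ sK e) = q ≫ DerivedCategory.Q.map (((tcx (TX X)).obj R.obj).map e.s) :=
    (congrArg DerivedCategory.Q.map (((tcx (TX X)).obj R.obj).map_comp _ _)).trans (DerivedCategory.Q.map_comp _ _)
  have e2 : (qM X).map (R ◁ gK e) = q ≫ DerivedCategory.Q.map (((tcx (TX X)).obj R.obj).map e.g) :=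
    (congrArg DerivedCategory.Q.map (((tcx (TX X)).obj R.obj).map_comp _ _)).trans (DerivedCategory.Q.map_comp _ _)
  have e3 : (qM X).map (ρ_ R).hom = DerivedCategory.Q.map (RHom.unitCx.hom.app R.obj) :=
    congrArg DerivedCategory.Q.map (rightUnitor_eq R.obj)
  rw [RHom.core, DerivedCategory.Q.map_comp]
  refine congrArg (_ ≫ ·) ?_
  rw [IsIso.inv_comp_eq, e1, e2, e3]
  refine Eq.trans ?_ (Category.assoc _ _ _).symm
  exact (Category.assoc _ _ _).trans (congrArg (q ≫ ·) (IsIso.hom_inv_id_assoc _ _).symm)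

theorem evR_app (R : KF X) :
    (evR e).app ((qM X).obj R) =
      (muK R D).hom ▷ (qM X).obj K ≫ (muK (R ⊗ D) K).hom ≫ RHom.core e R.obj R.property := by
  haveI := isIso_sK e
  haveI : IsIso ((qM X).map (R ◁ sK e)) := Localization.inverts (qK X) (kfW X) _
      (MorphismProperty.whiskerLeft_mem _ R _ (by
        haveI := e.hs
        haveI := quasiIso_resπ (cover X) e.Z
        exact (show QuasiIso (resπ (cover X) e.Z ≫ e.s) from inferInstance)))
  have k1 : (muK R (D ⊗ K)).inv ≫ (qM X).obj R ◁ inv ((qM X).map (sK e)) =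
      inv ((qM X).map (R ◁ sK e)) ≫ (muK R ((kfRes X).obj e.Z)).inv := by
    rw [IsIso.eq_inv_comp, ← μ_inv_natural_right_assoc, ← MonoidalCategory.whiskerLeft_comp, IsIso.hom_inv_id,
      MonoidalCategory.whiskerLeft_id, Category.comp_id]
  have k2 : (muK R (𝟙_ (KF X))).inv ≫ (ρ_ ((qM X).obj R)).hom = (qM X).map (ρ_ R).hom := by
    rw [rightUnitor_hom_app]
    have : (qM X).obj R ◁ (ε' (qK X) (kfW X) (εK X)).inv = 𝟙 _ := MonoidalCategory.whiskerLeft_id _ _
    rw [this, Category.id_comp, Iso.inv_hom_id_assoc]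
  change (α_ _ _ _).hom ≫ (qM X).obj R ◁ evM e ≫ (ρ_ _).hom = _
  rw [associator_hom_app, evM, ← core_eq e R, Localization.Monoidal.tensorHom_id, Localization.Monoidal.id_tensorHom]
  simp only [Category.assoc, MonoidalCategory.whiskerLeft_comp]
  refine congrArg (_ ≫ ·) (congrArg (_ ≫ ·) ?_)
  refine congrArg (_ ≫ ·) ?_
  rw [← MonoidalCategory.whiskerLeft_comp_assoc, Iso.inv_hom_id, MonoidalCategory.whiskerLeft_id, Category.id_comp,
    reassoc_of% k1, μ_inv_natural_right_assoc, k2]

theorem evR_eq : evR e =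
    Functor.whiskerRight (theta D).hom (tR K) ≫ Functor.whiskerLeft (DCoh.LTensorCx D.obj) (theta K).hom ≫
      RHom.evalD e := by
  refine Localization.natTrans_ext (qK X) (kfW X) fun R => ?_
  refine (evR_app e R).trans ?_
  change _ = (tR K).map ((theta D).hom.app (DerivedCategory.Q.obj R.obj)) ≫
    (theta K).hom.app ((DCoh.LTensorCx D.obj).obj (DerivedCategory.Q.obj R.obj)) ≫
      (RHom.evalD e).app (DerivedCategory.Q.obj R.obj)
  rw [RHom.evalD_app e R.obj R.property, RHom.eta]
  have n1 := (theta K).hom.naturality ((RHom.ltCounit D.obj).app R.obj)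
  rw [show (muK R D).hom ▷ (qM X).obj K = (tR K).map ((theta D).hom.app _) ≫ (tR K).map ((RHom.ltCounit D.obj).app R.obj)
    from (congrArg (fun t => (tR K).map t) (theta_app D R)).symm.trans ((tR K).map_comp _ _), Category.assoc]
  refine congrArg (_ ≫ ·) ?_
  have n2 : (muK (R ⊗ D) K).hom = (theta K).hom.app (DerivedCategory.Q.obj (R ⊗ D).obj) ≫
      (RHom.ltCounit K.obj).app (R ⊗ D).obj := (theta_app K (R ⊗ D)).symm
  rw [n2, Category.assoc]
  exact (Category.assoc _ _ _).symm.trans ((congrArg (· ≫ _) n1).trans (Category.assoc _ _ _))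

theorem exactPairing_of_isIso [DCoh.HasRSheafHom K.obj] (h : IsIso (RHom.phi e)) :
    Nonempty (ExactPairing ((qM X).obj K) ((qM X).obj D)) := by
  refine nonempty_exactPairing (evM e) fun A T => ?_
  have hu : RHom.Univ (DCoh.RSheafHomAdj K.obj) ((RHom.evalD e).app A) := by
    rw [RHom.univ_iff]
    exact inferInstanceAs (IsIso ((RHom.phi e).app A))
  let θD := (theta D).app A
  let θK := fun S => (theta K).app S
  have key : (fun y : T ⟶ A ⊗ (qM X).obj D => y ▷ (qM X).obj K ≫ (α_ _ _ _).hom ≫ A ◁ evM e ≫ (ρ_ A).hom) =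
      (fun z => (θK T).hom ≫ z) ∘ (fun y => (DCoh.LTensorCx K.obj).map y ≫ (RHom.evalD e).app A) ∘
        (fun y => y ≫ θD.hom) := by
    funext y
    have h1 : (α_ _ _ _).hom ≫ A ◁ evM e ≫ (ρ_ A).hom = (tR K).map θD.hom ≫
        (θK _).hom ≫ (RHom.evalD e).app A := congrArg (fun t => t.app A) (evR_eq e)
    rw [h1]
    change (tR K).map y ≫ (tR K).map θD.hom ≫ (θK _).hom ≫ _ =
      (θK T).hom ≫ (DCoh.LTensorCx K.obj).map (y ≫ θD.hom) ≫ _
    rw [← Category.assoc ((tR K).map y), ← Functor.map_comp]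
    exact (Category.assoc _ _ _).symm.trans
      ((congrArg (· ≫ _) ((theta K).hom.naturality (y ≫ θD.hom))).trans (Category.assoc _ _ _))
  rw [key]
  exact ((θK T).symm.homFromEquiv.bijective).comp ((hu T).comp θD.homToEquiv.bijective)

omit e in
/-- For a perfect `K` with dual `D`, `RHom(D, -) ≅ - ⊗^L K`. -/
theorem nonempty_bidualIso (K D : CochainComplex X.Modules ℤ) [DCoh.HasLTensorCx K] [DCoh.HasRSheafHom K]
    [DCoh.HasLTensorCx D] [DCoh.HasRSheafHom D] (hK : IsKFlat (TX X) K) (hD : IsKFlat (TX X) D)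
    (hKp : DCoh.IsPerfect (DCoh.toD X K))
    (eD : DerivedCategory.Q.obj D ≅ (DCoh.RSheafHom K).obj (RHom.oD X)) :
    Nonempty (DCoh.RSheafHom D ≅ DCoh.LTensorCx K) := by
  obtain ⟨e, he⟩ := RHom.exists_pairing hK eD
  let K₁ : KF X := ⟨K, hK⟩
  let D₁ : KF X := ⟨D, hD⟩
  obtain ⟨p⟩ := exactPairing_of_isIso (K := K₁) (D := D₁) e (RHom.isIso_phi e hK hKp he)
  haveI := p
  let adj : tL D₁ ⊣ tL K₁ := tensorLeftAdjunction ((qM X).obj K₁) ((qM X).obj D₁)
  obtain ⟨iD⟩ := nonempty_commIso D₁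
  obtain ⟨iK⟩ := nonempty_commIso K₁
  exact ⟨(DCoh.RSheafHomAdj D).rightAdjointUniq
    ((adj.ofNatIsoLeft (iD ≪≫ theta D₁)).ofNatIsoRight (iK ≪≫ theta K₁))⟩

end Groth.Agent.DMon9
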