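import Groth.Agent.Lib.DMon9.Cx
import Groth.Agent.Lib.RHom.Exist
import Groth.Agent.Lib.RHom.DualMap
import Groth.Agent.Lib.KFlat.PullbackQIso
import Mathlib.CategoryTheory.Monoidal.Subcategory
import Mathlib.CategoryTheory.Localization.Monoidal.Basic

/-! The monoidal structure on the derived category of modules, via K-flat complexes. -/

set_option autoImplicit false
set_option linter.unusedSectionVars false
set_option backward.isDefEq.respectTransparency false
set_option backward.isDefEq.respectTransparency.types false

universe u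

open CategoryTheory CategoryTheory.Limits MonoidalCategory AlgebraicGeometry

attribute [local instance] HasDerivedCategory.standard

namespace Groth.Agent.DMon9

open KFlat KFlat.Sch

variable (X : Scheme.{u})

/-- K-flatness, as a property of objects. -/
def kfP : ObjectProperty (CochainComplex X.Modules ℤ) := fun K => IsKFlat (TX X) K

instance kfP_monoidal : (kfP X).IsMonoidal where
  prop_unit := RHom.isKFlat_sgOne 0
  prop_tensor := fun _ _ h₁ h₂ => isKFlat_tcx h₁ h₂

/-- K-flat complexes. -/
abbrev KF : Type (u + 1) := (kfP X).FullSubcategory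

/-- Quasi-isomorphisms of K-flat complexes. -/
def kfW : MorphismProperty (KF X) :=
  (HomologicalComplex.quasiIso X.Modules (ComplexShape.up ℤ)).inverseImage (kfP X).ι

instance kfW_monoidal : (kfW X).IsMonoidal where
  id_mem A := by
    show QuasiIso (𝟙 A.obj)
    infer_instance
  comp_mem f g (hf : QuasiIso f.hom) (hg : QuasiIso g.hom) := by
    show QuasiIso (f.hom ≫ g.hom)
    infer_instance
  whiskerLeft A _ _ g (hg : QuasiIso g.hom) := by
    show QuasiIso (((tcx (TX X)).obj A.obj).map g.hom)
    exact IsKFlat.quasiIso_map₂ ((isKFlat_flip_iff' _).2 A.property) g.hom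
  whiskerRight f (hf : QuasiIso f.hom) B := by
    show QuasiIso (((tcx (TX X)).map f.hom).app B.obj)
    exact B.property.quasiIso_map₁ f.hom

/-- K-flat resolution. -/
noncomputable def kfRes : CochainComplex X.Modules ℤ ⥤ KF X :=
  ObjectProperty.lift (kfP X) (resFunctor (cover X)) fun G => (isAdapted_resObj G).1

/-- Inclusion of K-flat complexes. -/
noncomputable def kfΦ : LocalizerMorphism (kfW X) (HomologicalComplex.quasiIso X.Modules (ComplexShape.up ℤ)) where
  functor := (kfP X).ι
  map := le_rfl

/-- Resolution as a morphism of localizers. -/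
noncomputable def kfΨ : LocalizerMorphism (HomologicalComplex.quasiIso X.Modules (ComplexShape.up ℤ)) (kfW X) where
  functor := kfRes X
  map A B f (hf : QuasiIso f) := by
    show QuasiIso ((resFunctor (cover X)).map f)
    haveI := quasiIso_resπ (cover X) A
    haveI := quasiIso_resπ (cover X) B
    haveI : QuasiIso ((resFunctor (cover X)).map f ≫ resπ (cover X) B) := by
      rw [show (resFunctor (cover X)).map f ≫ resπ (cover X) B = resπ (cover X) A ≫ f from
        (resNatTrans (cover X)).naturality f]
      infer_instance
    exact quasiIso_of_comp_right _ (resπ (cover X) B)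

/-- The resolution of a K-flat complex. -/
noncomputable def kfπ : (kfP X).ι ⋙ kfRes X ⟶ 𝟭 (KF X) where
  app A := ObjectProperty.homMk (resπ (cover X) A.obj)
  naturality A B f := by
    ext : 1
    exact (resNatTrans (cover X)).naturality f.hom

open Functor in
instance kfΦ_isLocalizedEquivalence : (kfΦ X).IsLocalizedEquivalence where
  isEquivalence := by
    let W₂ := HomologicalComplex.quasiIso X.Modules (ComplexShape.up ℤ)
    haveI : IsIso (whiskerRight (kfπ X) (kfW X).Q) := by
      rw [NatTrans.isIso_iff_isIso_app]
      exact fun A => Localization.inverts (kfW X).Q (kfW X) _ (quasiIso_resπ (cover X) A.obj)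
    haveI : IsIso (whiskerRight (resNatTrans (cover X)) W₂.Q) := by
      rw [NatTrans.isIso_iff_isIso_app]
      exact fun A => Localization.inverts W₂.Q W₂ _ (quasiIso_resπ (cover X) A)
    refine (Localization.equivalence (kfW X).Q (kfW X) W₂.Q W₂ ((kfΦ X).functor ⋙ W₂.Q)
      ((kfΦ X).localizedFunctor (kfW X).Q W₂.Q)
      ((kfΨ X).functor ⋙ (kfW X).Q) ((kfΨ X).localizedFunctor W₂.Q (kfW X).Q) ?_ ?_).isEquivalence_functor
    · exact Functor.associator _ _ _ ≪≫
        isoWhiskerLeft _ (CatCommSq.iso (kfΨ X).functor W₂.Q (kfW X).Q _).symm ≪≫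
        (Functor.associator _ _ _).symm ≪≫
        asIso (whiskerRight (kfπ X) (kfW X).Q) ≪≫ Functor.leftUnitor _
    · exact Functor.associator _ _ _ ≪≫
        isoWhiskerLeft _ (CatCommSq.iso (kfΦ X).functor (kfW X).Q W₂.Q _).symm ≪≫
        (Functor.associator _ _ _).symm ≪≫
        asIso (whiskerRight (resNatTrans (cover X)) W₂.Q) ≪≫ Functor.leftUnitor _

/-- The localization of K-flat complexes. -/
noncomputable abbrev qK : KF X ⥤ DCoh.D X := (kfP X).ι ⋙ DerivedCategory.Q

instance qK_isLocalization : (qK X).IsLocalization (kfW X) :=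
  inferInstanceAs (((kfΦ X).functor ⋙ DerivedCategory.Q).IsLocalization (kfW X))

/-- The unit. -/
noncomputable abbrev εK : (qK X).obj (𝟙_ (KF X)) ≅ (qK X).obj (𝟙_ (KF X)) := Iso.refl _

/-- The derived category with its tensor product. -/
abbrev DM : Type (u + 1) := LocalizedMonoidal (qK X) (kfW X) (εK X)

end Groth.Agent.DMon9
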