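import Groth.Agent.Lib.DMon9.Unit2
import Groth.Agent.Lib.DMon9.Pull

/-! Pullback of complexes is a monoidal functor. -/

set_option autoImplicit false
set_option linter.unusedSectionVars false
set_option backward.isDefEq.respectTransparency false
set_option backward.isDefEq.respectTransparency.types false
set_option maxHeartbeats 800000

universe u

open CategoryTheory CategoryTheory.Limits MonoidalCategory AlgebraicGeometry

namespace Groth.Agent.DMon9

open KFlat KFlat.Sch

variable {X Y : Scheme.{u}} (f : Y ⟶ X)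

/-- Pullback of complexes. -/
noncomputable abbrev pullCx : CochainComplex X.Modules ℤ ⥤ CochainComplex Y.Modules ℤ :=
  (Scheme.Modules.pullback f).mapHomologicalComplex (ComplexShape.up ℤ)

/-- The comparison on tensor products. -/
noncomputable def muCx (A B : CochainComplex X.Modules ℤ) :
    (pullCx f).obj A ⊗ (pullCx f).obj B ≅ (pullCx f).obj (A ⊗ B) :=
  (pullTensorCxIso f A B).symm

/-- The comparison on units. -/
noncomputable def epsCx : 𝟙_ (CochainComplex Y.Modules ℤ) ≅ (pullCx f).obj (𝟙_ (CochainComplex X.Modules ℤ)) :=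
  (HomologicalComplex.single Y.Modules (ComplexShape.up ℤ) 0).mapIso (pullOne f).symm ≪≫
    ((HomologicalComplex.singleMapHomologicalComplex (Scheme.Modules.pullback f) (ComplexShape.up ℤ) 0).app
      (Coh.structureModule X)).symm

theorem epsCx_f :
    (epsCx f).hom.f 0 = (HomologicalComplex.singleObjXSelf (ComplexShape.up ℤ) 0 (𝟙_ Y.Modules)).hom ≫
      (pullOne f).inv ≫
        (Scheme.Modules.pullback f).map (HomologicalComplex.singleObjXSelf (ComplexShape.up ℤ) 0 (𝟙_ X.Modules)).inv := by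
  change ((HomologicalComplex.single Y.Modules (ComplexShape.up ℤ) 0).map (pullOne f).inv).f 0 ≫
    ((HomologicalComplex.singleMapHomologicalComplex (Scheme.Modules.pullback f) (ComplexShape.up ℤ) 0).inv.app
      (Coh.structureModule X)).f 0 = _
  rw [HomologicalComplex.single_map_f_self, HomologicalComplex.singleMapHomologicalComplex_inv_app_self]
  simp only [Category.assoc, Iso.inv_hom_id_assoc]
  rfl

theorem ι_muCx (A B : CochainComplex X.Modules ℤ) (p q n : ℤ) (h : p + q = n) :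
    HomologicalComplex.ιTensorObj ((pullCx f).obj A) ((pullCx f).obj B) p q n h ≫ (muCx f A B).hom.f n =
      ((pullCore f).μIso (A.X p) (B.X q)).hom ≫
        (Scheme.Modules.pullback f).map (HomologicalComplex.ιTensorObj A B p q n h) := by
  have h1 : (Scheme.Modules.pullback f).map (HomologicalComplex.ιTensorObj A B p q n h) ≫
      (muCx f A B).inv.f n = (pullTensorIso₂ f (A.X p) (B.X q)).hom ≫
        HomologicalComplex.ιTensorObj ((pullCx f).obj A) ((pullCx f).obj B) p q n h :=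
    ι_transferIso (TX X) (TX Y) (𝟭 _) (𝟭 _) (Scheme.Modules.pullback f) (Scheme.Modules.pullback f)
      (Scheme.Modules.pullback f) (natural_pullTensorIso₂ f) A B p q n h
  have h2 : (muCx f A B).inv.f n ≫ (muCx f A B).hom.f n = 𝟙 _ := by
    rw [← HomologicalComplex.comp_f, Iso.inv_hom_id, HomologicalComplex.id_f]
  change _ = (pullTensorIso₂ f (A.X p) (B.X q)).inv ≫ _
  rw [Iso.eq_inv_comp, ← Category.assoc, ← h1, Category.assoc, h2]
  exact Category.comp_id _

theorem muCx_natural_left {A A' : CochainComplex X.Modules ℤ} (g : A ⟶ A') (B : CochainComplex X.Modules ℤ) :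
    (pullCx f).map g ▷ (pullCx f).obj B ≫ (muCx f A' B).hom = (muCx f A B).hom ≫ (pullCx f).map (g ▷ B) := by
  have h := transferIso_naturality (TX X) (TX Y) (𝟭 _) (𝟭 _) (Scheme.Modules.pullback f) (Scheme.Modules.pullback f)
    (Scheme.Modules.pullback f) (natural_pullTensorIso₂ f) g (𝟙 B)
  simp only [CategoryTheory.Functor.map_id] at h
  have h' : (pullCx f).map (g ▷ B) ≫ (muCx f A' B).inv = (muCx f A B).inv ≫ (pullCx f).map g ▷ (pullCx f).obj B := h
  rw [← cancel_epi (muCx f A B).inv, ← reassoc_of% h', Iso.inv_hom_id, Category.comp_id, Iso.inv_hom_id_assoc]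

theorem muCx_natural_right (A : CochainComplex X.Modules ℤ) {B B' : CochainComplex X.Modules ℤ} (g : B ⟶ B') :
    (pullCx f).obj A ◁ (pullCx f).map g ≫ (muCx f A B').hom = (muCx f A B).hom ≫ (pullCx f).map (A ◁ g) := by
  have h := transferIso_naturality (TX X) (TX Y) (𝟭 _) (𝟭 _) (Scheme.Modules.pullback f) (Scheme.Modules.pullback f)
    (Scheme.Modules.pullback f) (natural_pullTensorIso₂ f) (𝟙 A) g
  simp only [CategoryTheory.Functor.map_id] at h
  have h' : (pullCx f).map (A ◁ g) ≫ (muCx f A B').inv = (muCx f A B).inv ≫ (pullCx f).obj A ◁ (pullCx f).map g := h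
  rw [← cancel_epi (muCx f A B).inv, ← reassoc_of% h', Iso.inv_hom_id, Category.comp_id, Iso.inv_hom_id_assoc]

theorem ι_whiskerRight {Z : Scheme.{u}} {A A' : CochainComplex Z.Modules ℤ} (g : A ⟶ A')
    (B : CochainComplex Z.Modules ℤ) (p q n : ℤ) (h : p + q = n) :
    HomologicalComplex.ιTensorObj A B p q n h ≫ (g ▷ B).f n =
      g.f p ▷ B.X q ≫ HomologicalComplex.ιTensorObj A' B p q n h :=
  ι_tcx_map₁ (TX Z) g B p q n h

theorem ι_whiskerLeft {Z : Scheme.{u}} (A : CochainComplex Z.Modules ℤ) {B B' : CochainComplex Z.Modules ℤ}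
    (g : B ⟶ B') (p q n : ℤ) (h : p + q = n) :
    HomologicalComplex.ιTensorObj A B p q n h ≫ (A ◁ g).f n =
      A.X p ◁ g.f q ≫ HomologicalComplex.ιTensorObj A B' p q n h :=
  ι_tcx_map₂ (TX Z) A g p q n h

section Gluing

variable {C D : Type*} [Category* C] [Category* D] [MonoidalCategory C] [MonoidalCategory D] {F : C ⥤ D}
  (c : F.CoreMonoidal)

theorem assoc_gluing {A B E AB BE T T' : C} {W W' : D} (ιAB : A ⊗ B ⟶ AB) (ιBE : B ⊗ E ⟶ BE) (ι₁ : AB ⊗ E ⟶ T)
    (ι₂ : A ⊗ BE ⟶ T') (a : T ⟶ T') (ha : ιAB ▷ E ≫ ι₁ ≫ a = (α_ A B E).hom ≫ A ◁ ιBE ≫ ι₂)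
    (u : F.obj A ⊗ F.obj B ⟶ W) (m : W ⟶ F.obj AB) (hm : u ≫ m = (c.μIso A B).hom ≫ F.map ιAB)
    (v : F.obj B ⊗ F.obj E ⟶ W') (m' : W' ⟶ F.obj BE) (hm' : v ≫ m' = (c.μIso B E).hom ≫ F.map ιBE) :
    u ▷ F.obj E ≫ m ▷ F.obj E ≫ (c.μIso AB E).hom ≫ F.map ι₁ ≫ F.map a =
      (α_ _ _ _).hom ≫ F.obj A ◁ v ≫ F.obj A ◁ m' ≫ (c.μIso A BE).hom ≫ F.map ι₂ := by
  rw [← MonoidalCategory.comp_whiskerRight_assoc, hm, ← MonoidalCategory.whiskerLeft_comp_assoc, hm']
  simp only [MonoidalCategory.comp_whiskerRight, MonoidalCategory.whiskerLeft_comp, Category.assoc]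
  rw [c.μIso_hom_natural_left_assoc, c.μIso_hom_natural_right_assoc, ← c.associativity_assoc]
  simp only [← F.map_comp, ha]

theorem left_gluing {A P : C} {Q : D} (e : P ≅ 𝟙_ C) (s : Q ⟶ 𝟙_ D) (eps : Q ⟶ F.obj P)
    (h : eps = s ≫ c.εIso.hom ≫ F.map e.inv) :
    s ▷ F.obj A ≫ (λ_ (F.obj A)).hom =
      eps ▷ F.obj A ≫ (c.μIso P A).hom ≫ F.map (e.hom ▷ A) ≫ F.map (λ_ A).hom := by
  rw [← c.μIso_hom_natural_left_assoc, ← MonoidalCategory.comp_whiskerRight_assoc, h, Category.assoc,
    Category.assoc, ← F.map_comp, Iso.inv_hom_id, CategoryTheory.Functor.map_id, Category.comp_id,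
    MonoidalCategory.comp_whiskerRight, Category.assoc, ← c.left_unitality]

theorem right_gluing {A P : C} {Q : D} (e : P ≅ 𝟙_ C) (s : Q ⟶ 𝟙_ D) (eps : Q ⟶ F.obj P)
    (h : eps = s ≫ c.εIso.hom ≫ F.map e.inv) :
    F.obj A ◁ s ≫ (ρ_ (F.obj A)).hom =
      F.obj A ◁ eps ≫ (c.μIso A P).hom ≫ F.map (A ◁ e.hom) ≫ F.map (ρ_ A).hom := by
  rw [← c.μIso_hom_natural_right_assoc, ← MonoidalCategory.whiskerLeft_comp_assoc, h, Category.assoc,
    Category.assoc, ← F.map_comp, Iso.inv_hom_id, CategoryTheory.Functor.map_id, Category.comp_id,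
    MonoidalCategory.whiskerLeft_comp, Category.assoc, ← c.right_unitality]

end Gluing

theorem muCx_assoc (A B C : CochainComplex X.Modules ℤ) :
    (muCx f A B).hom ▷ (pullCx f).obj C ≫ (muCx f (A ⊗ B) C).hom ≫ (pullCx f).map (α_ A B C).hom =
      (α_ ((pullCx f).obj A) ((pullCx f).obj B) ((pullCx f).obj C)).hom ≫ (pullCx f).obj A ◁ (muCx f B C).hom ≫
        (muCx f A (B ⊗ C)).hom := by
  refine HomologicalComplex.hom_ext _ _ fun n => HomologicalComplex.mapBifunctor₁₂.hom_ext fun i j k h => ?_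
  have hn : i + j + k = n := h
  let G := Scheme.Modules.pullback f
  let μ := fun M N => ((pullCore f).μIso M N).hom
  have hL : HomologicalComplex.mapBifunctor₁₂.ι (TX Y) (TX Y) ((pullCx f).obj A) ((pullCx f).obj B) ((pullCx f).obj C)
      (ComplexShape.up ℤ) (ComplexShape.up ℤ) i j k n h =
      HomologicalComplex.ιTensorObj ((pullCx f).obj A) ((pullCx f).obj B) i j (i + j) rfl ▷ G.obj (C.X k) ≫
        HomologicalComplex.ιTensorObj ((pullCx f).obj A ⊗ (pullCx f).obj B) ((pullCx f).obj C) (i + j) k n h :=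
    HomologicalComplex.mapBifunctor₁₂.ι_eq _ _ _ _ _ _ _ i j k (i + j) n rfl h
  have hα : HomologicalComplex.mapBifunctor₁₂.ι (TX Y) (TX Y) ((pullCx f).obj A) ((pullCx f).obj B) ((pullCx f).obj C)
      (ComplexShape.up ℤ) (ComplexShape.up ℤ) i j k n h ≫ (α_ ((pullCx f).obj A) ((pullCx f).obj B) ((pullCx f).obj C)).hom.f n =
      (α_ (G.obj (A.X i)) (G.obj (B.X j)) (G.obj (C.X k))).hom ≫
        G.obj (A.X i) ◁ HomologicalComplex.ιTensorObj ((pullCx f).obj B) ((pullCx f).obj C) j k (j + k) rfl ≫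
        HomologicalComplex.ιTensorObj ((pullCx f).obj A) ((pullCx f).obj B ⊗ (pullCx f).obj C) i (j + k) n
          (by omega) :=
    (HomologicalComplex.ι_mapBifunctorAssociatorX_hom (RHom.assocT Y) ((pullCx f).obj A) ((pullCx f).obj B)
      ((pullCx f).obj C) (ComplexShape.up ℤ) (ComplexShape.up ℤ) (ComplexShape.up ℤ) i j k n h).trans
      (congrArg (_ ≫ ·) (HomologicalComplex.mapBifunctor₂₃.ι_eq _ _ _ _ _ _ _ _ i j k (j + k) n rfl (show i + (j + k) = n by omega)))
  have hαX : HomologicalComplex.ιTensorObj A B i j (i + j) rfl ▷ C.X k ≫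
        HomologicalComplex.ιTensorObj (A ⊗ B) C (i + j) k n h ≫ (α_ A B C).hom.f n =
      (α_ (A.X i) (B.X j) (C.X k)).hom ≫ A.X i ◁ HomologicalComplex.ιTensorObj B C j k (j + k) rfl ≫
        HomologicalComplex.ιTensorObj A (B ⊗ C) i (j + k) n (by omega) :=
    (Category.assoc _ _ _).symm.trans ((congrArg (· ≫ (α_ A B C).hom.f n)
      (HomologicalComplex.mapBifunctor₁₂.ι_eq (TX X) (TX X) A B C (ComplexShape.up ℤ) (ComplexShape.up ℤ)
        i j k (i + j) n rfl h).symm).trans
      ((HomologicalComplex.ι_mapBifunctorAssociatorX_hom (RHom.assocT X) A B C (ComplexShape.up ℤ) (ComplexShape.up ℤ)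
        (ComplexShape.up ℤ) i j k n h).trans
      (congrArg (_ ≫ ·) (HomologicalComplex.mapBifunctor₂₃.ι_eq _ _ _ _ _ _ _ _ i j k (j + k) n rfl (show i + (j + k) = n by omega)))))
  rw [HomologicalComplex.comp_f, HomologicalComplex.comp_f, HomologicalComplex.comp_f, HomologicalComplex.comp_f]
  change HomologicalComplex.mapBifunctor₁₂.ι (TX Y) (TX Y) _ _ _ (ComplexShape.up ℤ) (ComplexShape.up ℤ) i j k n h ≫ _ =
    HomologicalComplex.mapBifunctor₁₂.ι (TX Y) (TX Y) _ _ _ (ComplexShape.up ℤ) (ComplexShape.up ℤ) i j k n h ≫ _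
  rw [reassoc_of% hα, hL, Category.assoc]
  rw [reassoc_of% (ι_whiskerRight (muCx f A B).hom ((pullCx f).obj C) (i + j) k n h),
    reassoc_of% (ι_muCx f (A ⊗ B) C (i + j) k n h),
    reassoc_of% (ι_whiskerLeft ((pullCx f).obj A) (muCx f B C).hom i (j + k) n (by omega)),
    ι_muCx f A (B ⊗ C) i (j + k) n (by omega)]
  exact assoc_gluing (pullCore f) (HomologicalComplex.ιTensorObj A B i j (i + j) rfl)
    (HomologicalComplex.ιTensorObj B C j k (j + k) rfl) (HomologicalComplex.ιTensorObj (A ⊗ B) C (i + j) k n h)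
    (HomologicalComplex.ιTensorObj A (B ⊗ C) i (j + k) n (show i + (j + k) = n by omega)) ((α_ A B C).hom.f n) hαX
    _ _ (ι_muCx f A B i j (i + j) rfl) _ _ (ι_muCx f B C j k (j + k) rfl)

theorem muCx_left_unitality (A : CochainComplex X.Modules ℤ) :
    (λ_ ((pullCx f).obj A)).hom =
      (epsCx f).hom ▷ (pullCx f).obj A ≫ (muCx f (𝟙_ _) A).hom ≫ (pullCx f).map (λ_ A).hom := by
  refine HomologicalComplex.hom_ext _ _ fun n => tcx_hom_ext (TX Y) fun p q h => ?_
  by_cases hp : p = 0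
  · subst hp
    obtain rfl : q = n := by omega
    change HomologicalComplex.ιTensorObj (𝟙_ (CochainComplex Y.Modules ℤ)) ((pullCx f).obj A) 0 q q h ≫ _ =
      HomologicalComplex.ιTensorObj (𝟙_ (CochainComplex Y.Modules ℤ)) ((pullCx f).obj A) 0 q q h ≫ _
    rw [HomologicalComplex.comp_f, HomologicalComplex.comp_f,
      reassoc_of% (ι_whiskerRight (epsCx f).hom ((pullCx f).obj A) 0 q q h), reassoc_of% (ι_muCx f (𝟙_ _) A 0 q q h)]
    refine (ι_leftUnitor _ q).trans ?_
    have hG : (Scheme.Modules.pullback f).map (HomologicalComplex.ιTensorObj (𝟙_ _) A 0 q q h) ≫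
        ((pullCx f).map (λ_ A).hom).f q = (Scheme.Modules.pullback f).map
          ((HomologicalComplex.singleObjXSelf (ComplexShape.up ℤ) 0 (𝟙_ X.Modules)).hom ▷ A.X q) ≫
            (Scheme.Modules.pullback f).map (λ_ (A.X q)).hom :=
      ((Scheme.Modules.pullback f).map_comp _ _).symm.trans
        ((congrArg (Scheme.Modules.pullback f).map (ι_leftUnitor A q)).trans ((Scheme.Modules.pullback f).map_comp _ _))
    rw [hG]
    exact left_gluing (pullCore f) (HomologicalComplex.singleObjXSelf (ComplexShape.up ℤ) 0 (𝟙_ X.Modules))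
      (HomologicalComplex.singleObjXSelf (ComplexShape.up ℤ) 0 (𝟙_ Y.Modules)).hom _ (epsCx_f f)
  · exact ((TX Y).map_isZero (HomologicalComplex.isZero_single_obj_X (ComplexShape.up ℤ) 0 _ p hp)).obj _ |>.eq_of_src _ _

theorem muCx_right_unitality (A : CochainComplex X.Modules ℤ) :
    (ρ_ ((pullCx f).obj A)).hom =
      (pullCx f).obj A ◁ (epsCx f).hom ≫ (muCx f A (𝟙_ _)).hom ≫ (pullCx f).map (ρ_ A).hom := by
  refine HomologicalComplex.hom_ext _ _ fun n => tcx_hom_ext (TX Y) fun p q h => ?_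
  by_cases hq : q = 0
  · subst hq
    obtain rfl : p = n := by omega
    change HomologicalComplex.ιTensorObj ((pullCx f).obj A) (𝟙_ (CochainComplex Y.Modules ℤ)) p 0 p h ≫ _ =
      HomologicalComplex.ιTensorObj ((pullCx f).obj A) (𝟙_ (CochainComplex Y.Modules ℤ)) p 0 p h ≫ _
    rw [HomologicalComplex.comp_f, HomologicalComplex.comp_f,
      reassoc_of% (ι_whiskerLeft ((pullCx f).obj A) (epsCx f).hom p 0 p h), reassoc_of% (ι_muCx f A (𝟙_ _) p 0 p h)]
    refine (ι_rightUnitor _ p).trans ?_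
    have hG : (Scheme.Modules.pullback f).map (HomologicalComplex.ιTensorObj A (𝟙_ _) p 0 p h) ≫
        ((pullCx f).map (ρ_ A).hom).f p = (Scheme.Modules.pullback f).map
          (A.X p ◁ (HomologicalComplex.singleObjXSelf (ComplexShape.up ℤ) 0 (𝟙_ X.Modules)).hom) ≫
            (Scheme.Modules.pullback f).map (ρ_ (A.X p)).hom :=
      ((Scheme.Modules.pullback f).map_comp _ _).symm.trans
        ((congrArg (Scheme.Modules.pullback f).map (ι_rightUnitor A p)).trans ((Scheme.Modules.pullback f).map_comp _ _))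
    rw [hG]
    exact right_gluing (pullCore f) (HomologicalComplex.singleObjXSelf (ComplexShape.up ℤ) 0 (𝟙_ X.Modules))
      (HomologicalComplex.singleObjXSelf (ComplexShape.up ℤ) 0 (𝟙_ Y.Modules)).hom _ (epsCx_f f)
  · exact (((TX Y).obj _).map_isZero (HomologicalComplex.isZero_single_obj_X (ComplexShape.up ℤ) 0 _ q hq)).eq_of_src _ _

/-- Pullback of complexes, monoidally. -/
noncomputable def pullCxCore : (pullCx f).CoreMonoidal where
  εIso := epsCx f
  μIso := muCx f
  μIso_hom_natural_left g B := muCx_natural_left f g B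
  μIso_hom_natural_right A g := muCx_natural_right f A g
  associativity := muCx_assoc f
  left_unitality := muCx_left_unitality f
  right_unitality := muCx_right_unitality f

end Groth.Agent.DMon9
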