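import Groth.Agent.Lib.DMon9.Dual
import Groth.Agent.Lib.DMon9.PullCx
import Groth.Agent.Lib.KFlat.Pullback
import Groth.Agent.Lib.KFlat.PullbackKFlat
import Groth.Agent.Lib.KInj.DerivedAdj
import Groth.Agent.Lib.DPush.Adapted
import Groth.Agent.Lib.KFlat.DTenFormal
import Mathlib.CategoryTheory.Localization.Monoidal.Functor

/-! Derived pullback is monoidal and left adjoint to derived direct image. -/

set_option autoImplicit false
set_option linter.unusedSectionVars false
set_option linter.style.haveILetI false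
set_option backward.isDefEq.respectTransparency false
set_option backward.isDefEq.respectTransparency.types false
set_option maxHeartbeats 1600000

universe u

open CategoryTheory CategoryTheory.Limits MonoidalCategory AlgebraicGeometry
open Localization.Monoidal

attribute [local instance] HasDerivedCategory.standard

namespace Groth.Agent.DMon9

open KFlat KFlat.Sch

variable {X Y : Scheme.{u}} (f : X ⟶ Y)

/-- Pullback of K-flat complexes. -/
noncomputable def kfPull : KF Y ⥤ KF X :=
  ObjectProperty.lift (kfP X) ((kfP Y).ι ⋙ pullCx f) fun A => isKFlat_pullback f A.property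

/-- Pullback of K-flat complexes, monoidally. -/
noncomputable def kfPullCore : (kfPull f).CoreMonoidal where
  εIso := ObjectProperty.isoMk (kfP X) (pullCxCore f).εIso
  μIso A B := ObjectProperty.isoMk (kfP X) ((pullCxCore f).μIso A.obj B.obj)
  μIso_hom_natural_left g B := by
    ext : 1
    exact (pullCxCore f).μIso_hom_natural_left g.hom B.obj
  μIso_hom_natural_right A g := by
    ext : 1
    exact (pullCxCore f).μIso_hom_natural_right A.obj g.hom
  associativity A B C := by
    ext : 1
    exact (pullCxCore f).associativity A.obj B.obj C.obj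
  left_unitality A := by
    ext : 1
    exact (pullCxCore f).left_unitality A.obj
  right_unitality A := by
    ext : 1
    exact (pullCxCore f).right_unitality A.obj

noncomputable instance kfPull_monoidal : (kfPull f).Monoidal := (kfPullCore f).toMonoidal

/-- Pullback into the derived category. -/
noncomputable abbrev gPull : KF Y ⥤ DM X := kfPull f ⋙ qM X

theorem inverts_gPull : (kfW Y).IsInvertedBy (gPull f) := fun A B φ (hφ : QuasiIso φ.hom) =>
  Localization.inverts (qK X) (kfW X) ((kfPull f).map φ)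
    (quasiIso_pullback_map_kflat f φ.hom A.property B.property)

/-- Derived pullback. -/
noncomputable def dPull : DM Y ⥤ DM X := Localization.lift (gPull f) (inverts_gPull f) (qM Y)

noncomputable instance dPull_lifting : Localization.Lifting (qM Y) (kfW Y) (gPull f) (dPull f) :=
  inferInstanceAs (Localization.Lifting (qM Y) (kfW Y) (gPull f)
    (Localization.lift (gPull f) (inverts_gPull f) (qM Y)))

noncomputable instance dPull_monoidal : (dPull f).Monoidal :=
  functorMonoidalOfComp (qM Y) (kfW Y) (dPull f) (gPull f)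

/-- Derived pullback as a functor of derived categories. -/
noncomputable def lP : DCoh.D Y ⥤ DCoh.D X := dPull f

/-- The computation of derived pullback. -/
noncomputable def lPFac : qK Y ⋙ lP f ≅ (kfP Y).ι ⋙ pullCx f ⋙ DerivedCategory.Q :=
  Localization.Lifting.iso (qM Y) (kfW Y) (gPull f) (dPull f)

/-- The comparison on all complexes. -/
noncomputable def lPα : DerivedCategory.Q ⋙ lP f ⟶ pullCx f ⋙ DerivedCategory.Q :=
  Functor.whiskerRight (resQIso (cover Y)).inv (lP f) ≫
    Functor.whiskerLeft (kfRes Y) (lPFac f).hom ≫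
      Functor.whiskerRight (resNatTrans (cover Y)) (pullCx f ⋙ DerivedCategory.Q)

theorem isIso_lPα (A : CochainComplex Y.Modules ℤ) (hA : IsKFlat (TX Y) A) : IsIso ((lPα f).app A) := by
  haveI := quasiIso_resπ (cover Y) A
  haveI : QuasiIso ((pullCx f).map (resπ (cover Y) A)) :=
    quasiIso_pullback_map_kflat f (resπ (cover Y) A) (isAdapted_resObj A).1 hA
  haveI : IsIso ((pullCx f ⋙ DerivedCategory.Q).map ((resNatTrans (cover Y)).app A)) :=
    inferInstanceAs (IsIso (DerivedCategory.Q.map ((pullCx f).map (resπ (cover Y) A))))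
  simp only [lPα, NatTrans.comp_app, Functor.whiskerRight_app, Functor.whiskerLeft_app]
  infer_instance

/-- The unit on all complexes. -/
noncomputable def rPβ [DCoh.HasRpush f] :
    (Scheme.Modules.pushforward f).mapHomologicalComplex (ComplexShape.up ℤ) ⋙ DerivedCategory.Q ⟶
      DerivedCategory.Q ⋙ DCoh.Rpush f :=
  Functor.whiskerLeft _ (DerivedCategory.quotientCompQhIso Y.Modules).inv ≫ (Functor.associator _ _ _).inv ≫
    Functor.whiskerRight ((Scheme.Modules.pushforward f).mapHomotopyCategoryFactors _).inv _ ≫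
    Functor.whiskerLeft (HomotopyCategory.quotient X.Modules _) (DPush.unit f) ≫ (Functor.associator _ _ _).inv ≫
    Functor.whiskerRight (DerivedCategory.quotientCompQhIso X.Modules).hom (DCoh.Rpush f)

theorem isIso_rPβ [DCoh.HasRpush f] (I : CochainComplex X.Modules ℤ) (hI : I.IsKInjective) :
    IsIso ((rPβ f).app I) := by
  have h1 : IsIso ((DPush.unit f).app ((HomotopyCategory.quotient X.Modules (ComplexShape.up ℤ)).obj I)) :=
    KInjLib.isIso_app_of_isKInjective KInjLib.enoughKInj_of_grothendieck (DPush.unit f) I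
  simp only [rPβ, NatTrans.comp_app, Functor.whiskerLeft_app, Functor.whiskerRight_app,
    Functor.associator_inv_app]
  infer_instance

/-- Derived pullback is left adjoint to derived direct image. -/
theorem nonempty_adj [DCoh.HasRpush f] : Nonempty (lP f ⊣ DCoh.Rpush f) := by
  let W₁ := HomologicalComplex.quasiIso Y.Modules (ComplexShape.up ℤ)
  let W₂ := HomologicalComplex.quasiIso X.Modules (ComplexShape.up ℤ)
  have hG : ∀ {A B : CochainComplex Y.Modules ℤ} (φ : A ⟶ B), W₁ φ → IsKFlat (TX Y) A → IsKFlat (TX Y) B →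
      IsIso ((pullCx f ⋙ DerivedCategory.Q).map φ) := fun φ hφ hA hB => by
    haveI : QuasiIso φ := hφ
    haveI : QuasiIso ((pullCx f).map φ) := quasiIso_pullback_map_kflat f φ hA hB
    exact inferInstanceAs (IsIso (DerivedCategory.Q.map ((pullCx f).map φ)))
  haveI : (lP f).IsLeftDerivedFunctor (lPα f) W₁ :=
    KFlat.isLeftDerivedFunctor_of_isIso (W := W₁) (resFunctor (cover Y)) (resNatTrans (cover Y))
      (fun G => quasiIso_resπ (cover Y) G) _ (fun A => IsKFlat (TX Y) A) (fun G => (isAdapted_resObj G).1)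
      hG _ _ _ (isIso_lPα f)
  have hP := KInjLib.derivingClass_Q (A := X.Modules) KInjLib.enoughKInj_of_grothendieck
  haveI : (DCoh.Rpush f).IsRightDerivedFunctor (rPβ f) W₂ :=
    KInjLib.isRightDerivedFunctor_of_isIso hP (rPβ f) (isIso_rPβ f)
  haveI : (lP f ⋙ DCoh.Rpush f).IsLeftDerivedFunctor
      ((Functor.associator _ _ _).inv ≫ Functor.whiskerRight (lPα f) (DCoh.Rpush f)) W₁ := by
    refine KFlat.isLeftDerivedFunctor_of_isIso (W := W₁) (resFunctor (cover Y)) (resNatTrans (cover Y))
      (fun G => quasiIso_resπ (cover Y) G) _ (fun A => IsKFlat (TX Y) A) (fun G => (isAdapted_resObj G).1)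
      (fun φ hφ hA hB => ?_) _ _ _ (fun A hA => ?_)
    · haveI := hG φ hφ hA hB
      exact inferInstanceAs (IsIso ((DCoh.Rpush f).map _))
    · haveI := isIso_lPα f A hA
      simp only [NatTrans.comp_app, Functor.whiskerRight_app, Functor.associator_inv_app]
      infer_instance
  haveI : (DCoh.Rpush f ⋙ lP f).IsRightDerivedFunctor
      (Functor.whiskerRight (rPβ f) (lP f) ≫ (Functor.associator _ _ _).hom) W₂ :=
    KInjLib.isRightDerivedFunctor_of_isIso hP _ fun I hI => by
      haveI := isIso_rPβ f I hI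
      simp only [NatTrans.comp_app, Functor.whiskerRight_app, Functor.associator_hom_app]
      infer_instance
  exact ⟨(KInjLib.adjComplexes (Scheme.Modules.pullbackPushforwardAdjunction f) (ComplexShape.up ℤ)).derived
    W₁ W₂ (lPα f) (rPβ f)⟩

section Pairing

/-- Monoidal functors preserve exact pairings. -/
theorem nonempty_map_exactPairing {C D : Type*} [Category* C] [Category* D] [MonoidalCategory C]
    [MonoidalCategory D] (F : C ⥤ D) [F.Monoidal] {K K' : C} [ExactPairing K K'] :
    Nonempty (ExactPairing (F.obj K) (F.obj K')) := by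
  refine ⟨{ coevaluation' := Functor.LaxMonoidal.ε F ≫ F.map (η_ K K') ≫ Functor.OplaxMonoidal.δ F K K'
            evaluation' := Functor.LaxMonoidal.μ F K' K ≫ F.map (ε_ K K') ≫ Functor.OplaxMonoidal.η F
            coevaluation_evaluation' := ?_
            evaluation_coevaluation' := ?_ }⟩
  · calc _ = F.obj K' ◁ Functor.LaxMonoidal.ε F ≫ Functor.LaxMonoidal.μ F K' (𝟙_ C) ≫ F.map (K' ◁ η_ K K' ≫ (α_ K' K K').inv ≫ ε_ K K' ▷ K') ≫
          Functor.OplaxMonoidal.δ F (𝟙_ C) K' ≫ Functor.OplaxMonoidal.η F ▷ F.obj K' := by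
          rw [Functor.Monoidal.map_associator_inv']
          simp only [MonoidalCategory.whiskerLeft_comp, MonoidalCategory.comp_whiskerRight, Category.assoc,
            Functor.Monoidal.whiskerLeft_δ_μ_assoc, Functor.Monoidal.whiskerRight_δ_μ_assoc,
            Functor.map_comp, Functor.LaxMonoidal.μ_natural_right_assoc,
            Functor.OplaxMonoidal.δ_natural_left_assoc]
      _ = _ := by
          rw [ExactPairing.coevaluation_evaluation]
          simp
  · calc _ = Functor.LaxMonoidal.ε F ▷ F.obj K ≫ Functor.LaxMonoidal.μ F (𝟙_ C) K ≫ F.map (η_ K K' ▷ K ≫ (α_ K K' K).hom ≫ K ◁ ε_ K K') ≫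
          Functor.OplaxMonoidal.δ F K (𝟙_ C) ≫ F.obj K ◁ Functor.OplaxMonoidal.η F := by
          rw [Functor.Monoidal.map_associator']
          simp only [MonoidalCategory.whiskerLeft_comp, MonoidalCategory.comp_whiskerRight, Category.assoc,
            Functor.Monoidal.whiskerLeft_δ_μ_assoc, Functor.Monoidal.whiskerRight_δ_μ_assoc,
            Functor.map_comp, Functor.LaxMonoidal.μ_natural_left_assoc,
            Functor.OplaxMonoidal.δ_natural_right_assoc]
      _ = _ := by
          rw [ExactPairing.evaluation_coevaluation]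
          simp

end Pairing

section Projection

/-- An exact pairing gives the biduality isomorphism. -/
theorem nonempty_rhomIso_of_pairing {K D : KF X} [ExactPairing ((qM X).obj K) ((qM X).obj D)]
    [DCoh.HasLTensorCx K.obj] [DCoh.HasLTensorCx D.obj] [DCoh.HasRSheafHom D.obj] :
    Nonempty (DCoh.RSheafHom D.obj ≅ DCoh.LTensorCx K.obj) := by
  let adj : tL D ⊣ tL K := tensorLeftAdjunction ((qM X).obj K) ((qM X).obj D)
  obtain ⟨iD⟩ := nonempty_commIso D
  obtain ⟨iK⟩ := nonempty_commIso K
  exact ⟨(DCoh.RSheafHomAdj D.obj).rightAdjointUniq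
    ((adj.ofNatIsoLeft (iD ≪≫ theta D)).ofNatIsoRight (iK ≪≫ theta K))⟩

/-- The projection formula for perfect complexes. -/
theorem nonempty_projection [DCoh.HasRpush f] (P : CochainComplex Y.Modules ℤ) (hP : IsKFlat (TX Y) P)
    (hPp : DCoh.IsPerfect (DCoh.toD Y P)) [DCoh.HasLTensorCx P] [DCoh.HasLTensorCx ((pullCx f).obj P)]
    (E : DCoh.D X) :
    Nonempty ((DCoh.LTensorCx P).obj ((DCoh.Rpush f).obj E) ≅
      (DCoh.Rpush f).obj ((DCoh.LTensorCx ((pullCx f).obj P)).obj E)) := by
  haveI := RHom.hasRSheafHom P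
  obtain ⟨P', q, hP', hq⟩ := RHom.exists_kflat_res
    (DerivedCategory.Q.objPreimage ((DCoh.RSheafHom P).obj (RHom.oD Y)))
  haveI := hq
  let eD : DerivedCategory.Q.obj P' ≅ (DCoh.RSheafHom P).obj (RHom.oD Y) :=
    asIso (DerivedCategory.Q.map q) ≪≫ DerivedCategory.Q.objObjPreimageIso _
  haveI := KFlat.Sch.hasLTensorCx P'
  haveI := RHom.hasRSheafHom P'
  obtain ⟨e, he⟩ := RHom.exists_pairing hP eD
  let K₁ : KF Y := ⟨P, hP⟩
  let D₁ : KF Y := ⟨P', hP'⟩
  obtain ⟨p⟩ := exactPairing_of_isIso (K := K₁) (D := D₁) e (RHom.isIso_phi e hP hPp he)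
  haveI := p
  obtain ⟨y⟩ := nonempty_rhomIso_of_pairing (K := K₁) (D := D₁)
  let K₂ : KF X := (kfPull f).obj K₁
  let D₂ : KF X := (kfPull f).obj D₁
  let L := Localization.Lifting.iso (qM Y) (kfW Y) (gPull f) (dPull f)
  obtain ⟨p₂⟩ := nonempty_map_exactPairing (dPull f) (K := (qM Y).obj K₁) (K' := (qM Y).obj D₁)
  haveI : ExactPairing ((qM Y ⋙ dPull f).obj K₁) ((qM Y ⋙ dPull f).obj D₁) := p₂
  haveI : ExactPairing ((qM X).obj K₂) ((qM X).obj D₂) :=
    exactPairingCongr (L.app K₁).symm (L.app D₁).symm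
  haveI : DCoh.HasLTensorCx K₂.obj := ‹DCoh.HasLTensorCx ((pullCx f).obj P)›
  haveI : DCoh.HasLTensorCx D₂.obj := KFlat.Sch.hasLTensorCx _
  haveI : DCoh.HasRSheafHom D₂.obj := RHom.hasRSheafHom _
  obtain ⟨x⟩ := nonempty_rhomIso_of_pairing (K := K₂) (D := D₂)
  obtain ⟨adj⟩ := nonempty_adj f
  let cM : (tensorRight ((qM Y).obj D₁) ⋙ dPull f : DM Y ⥤ DM X) ≅ dPull f ⋙ tensorRight ((qM X).obj D₂) :=
    NatIso.ofComponents (fun A => (Functor.Monoidal.μIso (dPull f) A ((qM Y).obj D₁)).symm ≪≫
        (tensorLeft ((dPull f).obj A)).mapIso (L.app D₁))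
      (fun {A B} g => by
        change (dPull f).map (g ▷ (qM Y).obj D₁) ≫ Functor.OplaxMonoidal.δ (dPull f) B _ ≫
            (dPull f).obj B ◁ (L.app D₁).hom =
          (Functor.OplaxMonoidal.δ (dPull f) A _ ≫ (dPull f).obj A ◁ (L.app D₁).hom) ≫
            (dPull f).map g ▷ (qM X).obj D₂
        rw [← Functor.OplaxMonoidal.δ_natural_left_assoc, Category.assoc]
        exact congrArg (_ ≫ ·) (MonoidalCategory.whisker_exchange _ _).symm)
  let c : tR D₁ ⋙ lP f ≅ lP f ⋙ tR D₂ := cM
  let c' : DCoh.LTensorCx P' ⋙ lP f ≅ lP f ⋙ DCoh.LTensorCx D₂.obj :=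
    Functor.isoWhiskerRight (theta D₁).symm (lP f) ≪≫ c ≪≫ Functor.isoWhiskerLeft (lP f) (theta D₂)
  let r : DCoh.RSheafHom D₂.obj ⋙ DCoh.Rpush f ≅ DCoh.Rpush f ⋙ DCoh.RSheafHom P' :=
    (adj.comp (DCoh.RSheafHomAdj D₂.obj)).rightAdjointUniq
      (((DCoh.RSheafHomAdj P').comp adj).ofNatIsoLeft c')
  exact ⟨(y.app _).symm ≪≫ (r.app E).symm ≪≫ (DCoh.Rpush f).mapIso (x.app E)⟩

end Projection

end Groth.Agent.DMon9
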