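import Groth.Agent.Lib.DMon9.Unit

/-! The components of the unitors of complexes of modules. -/

set_option autoImplicit false
set_option linter.unusedSectionVars false
set_option backward.isDefEq.respectTransparency false
set_option backward.isDefEq.respectTransparency.types false
set_option maxHeartbeats 400000

universe u

open CategoryTheory CategoryTheory.Limits MonoidalCategory AlgebraicGeometry

namespace Groth.Agent.DMon9

open KFlat KFlat.Sch

variable {X : Scheme.{u}}

theorem ι_rightUnitor (R : CochainComplex X.Modules ℤ) (m : ℤ) :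
    HomologicalComplex.ιTensorObj R (HomologicalComplex.tensorUnit X.Modules (ComplexShape.up ℤ)) m 0 m (add_zero m) ≫
        (ρ_ R).hom.f m =
      R.X m ◁ (HomologicalComplex.singleObjXSelf (ComplexShape.up ℤ) 0 (𝟙_ X.Modules)).hom ≫ (ρ_ (R.X m)).hom := by
  rw [rightUnitor_eq]
  exact RHom.ι_unitCx R m

theorem ι_leftUnitor (R : CochainComplex X.Modules ℤ) (m : ℤ) :
    HomologicalComplex.ιTensorObj (HomologicalComplex.tensorUnit X.Modules (ComplexShape.up ℤ)) R 0 m m (zero_add m) ≫
        (λ_ R).hom.f m =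
      (HomologicalComplex.singleObjXSelf (ComplexShape.up ℤ) 0 (𝟙_ X.Modules)).hom ▷ R.X m ≫ (λ_ (R.X m)).hom := by
  have h0 : (λ_ R).inv = (HomologicalComplex.leftUnitor R).inv := rfl
  have h1 : (HomologicalComplex.leftUnitor R).inv.f m = (HomologicalComplex.leftUnitor' R).inv m := by
    simp [HomologicalComplex.leftUnitor]
  have h : (λ_ R).inv.f m = (λ_ (R.X m)).inv ≫
      ((HomologicalComplex.singleObjXSelf (ComplexShape.up ℤ) 0 (𝟙_ X.Modules)).inv ▷ R.X m) ≫
        HomologicalComplex.ιTensorObj (HomologicalComplex.tensorUnit X.Modules (ComplexShape.up ℤ)) R 0 m m (zero_add m) :=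
    ((congrArg (fun φ => HomologicalComplex.Hom.f φ m) h0).trans h1).trans (HomologicalComplex.leftUnitor'_inv R m)
  have h' : (λ_ R).inv.f m ≫ (λ_ R).hom.f m = 𝟙 _ := by
    rw [← HomologicalComplex.comp_f, Iso.inv_hom_id, HomologicalComplex.id_f]
  rw [h] at h'
  rw [← cancel_epi ((λ_ (R.X m)).inv ≫
    ((HomologicalComplex.singleObjXSelf (ComplexShape.up ℤ) 0 (𝟙_ X.Modules)).inv ▷ R.X m)), Category.assoc]
  simp only [Category.assoc] at h'
  refine h'.trans ?_
  rw [Category.assoc, ← MonoidalCategory.comp_whiskerRight_assoc, Iso.inv_hom_id, MonoidalCategory.id_whiskerRight,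
    Category.id_comp, Iso.inv_hom_id]

end Groth.Agent.DMon9
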